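import Groth.Agent.ThickQuotLib.Scheme
import Groth.Agent.AlgSpThickLib.Chart
import Groth.Agent.AlgSpLib.MorPack

/-!
# Representable and affine morphisms between thickenings
-/

set_option autoImplicit false
set_option linter.all false
set_option backward.isDefEq.respectTransparency false
set_option backward.isDefEq.respectTransparency.types false

noncomputable section

universe u

open CategoryTheory CategoryTheory.Limits AlgebraicGeometry AlgSp AlgSpLib

namespace ThickQuotLib

variable {S : Scheme.{u}} {X X' Y Y' : Sp S} {i : X ⟶ X'} {j : Y ⟶ Y'} {f : X ⟶ Y} {f' : X' ⟶ Y'}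

/-- Representable pullback square from a representation of a fibre product. -/
theorem exists_square_of_iso {F G : Sp S} {a : F ⟶ G} {T W : Over S} (g : (yon S).obj T ⟶ G)
    {P : Sp S} {fst : P ⟶ F} {snd : P ⟶ (yon S).obj T} (sq : IsPullback fst snd a g) (e : (yon S).obj W ≅ P) :
    ∃ (q : W ⟶ T) (p : (yon S).obj W ⟶ F), IsPullback p ((yon S).map q) a g := by
  obtain ⟨q, hq⟩ := (yon S).map_surjective (e.hom ≫ snd)
  exact ⟨q, e.hom ≫ fst, IsPullback.of_iso sq e.symm (Iso.refl _) (Iso.refl _) (Iso.refl _) (by simp) (by simp [hq])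
    (by simp) (by simp)⟩

theorem representable_of_isRepSh_pullback {F G : Sp S} {a : F ⟶ G}
    (h : ∀ (T : Over S) (g : (yon S).obj T ⟶ G), IsRepSh (pullback a g)) : Representable a := fun T g => by
  obtain ⟨W, ⟨e⟩⟩ := h T g
  obtain ⟨q, p, sq⟩ := exists_square_of_iso g (IsPullback.of_hasPullback a g) e
  exact ⟨W, q, p, sq⟩

/-- Representability does not change along thickenings. -/
theorem representable_iff (hX : IsAlgSpace X) (hX' : IsAlgSpace X') (hY : IsAlgSpace Y) (hY' : IsAlgSpace Y')
    (hi : IsThickMor i) (hj : IsThickMor j) (w : i ≫ f' = f ≫ j) : Representable f ↔ Representable f' := by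
  haveI := AlgSpThickLib.mono_of_thick hj
  constructor
  · intro hf
    refine representable_of_isRepSh_pullback fun T g' => ?_
    obtain ⟨T₀, k, g, sqk, hk⟩ := AlgSpThickLib.exists_thick_chart hj g'
    obtain ⟨W, p, q, sq⟩ : ∃ (W : Over S) (p : (yon S).obj W ⟶ X) (q : W ⟶ T₀), IsPullback p ((yon S).map q) f g :=
      ⟨_, _, _, hf.isPullback g⟩
    have sq' := IsPullback.of_hasPullback f' g'
    let α := sq'.lift (p ≫ i) ((yon S).map q ≫ (yon S).map k)
      (by rw [Category.assoc, w, reassoc_of% sq.w, sqk.w, Category.assoc])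
    have hα : IsThickMor α := AlgSpThickLib.thick_of_isPullback_map hi hj ((isThickMor_yon_map_iff k).2 hk) sq sq' w
      sqk.w.symm α (sq'.lift_fst _ _ _) (sq'.lift_snd _ _ _)
    exact isRepSh_of_thick (IsAlgSpace.yon_obj W) (isAlgSpace_pullback hX' (IsAlgSpace.yon_obj T) hY' f' g') hα
      ⟨W, ⟨Iso.refl _⟩⟩
  · intro hf'
    have hfj : Representable (f ≫ j) := w ▸
      MorphismProperty.comp_mem (W := (Representable : MorphismProperty (Sp S))) i f' hi.rep hf'
    refine representable_of_isRepSh_pullback fun T g => ?_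
    have sq := IsPullback.of_hasPullback f g
    have sqc : IsPullback (pullback.fst f g) (pullback.snd f g) (f ≫ j) (g ≫ j) :=
      IsPullback.mk' (by rw [reassoc_of% sq.w]) (fun T φ φ' e1 e2 => sq.hom_ext e1 e2)
        (fun T a b e => ⟨sq.lift a b (by rw [← cancel_mono j, Category.assoc, Category.assoc, e]),
          sq.lift_fst _ _ _, sq.lift_snd _ _ _⟩)
    exact ⟨_, ⟨((hfj.isPullback (g ≫ j)).isoIsPullback _ _ sqc)⟩⟩

/-- Affineness does not change along thickenings. -/
theorem isAffineMor_iff (hX : IsAlgSpace X) (hX' : IsAlgSpace X') (hY : IsAlgSpace Y) (hY' : IsAlgSpace Y')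
    (hi : IsThickMor i) (hj : IsThickMor j) (w : i ≫ f' = f ≫ j) : IsAffineMor f ↔ IsAffineMor f' := by
  constructor
  · intro hf T hT g'
    haveI := hT
    obtain ⟨T₀, k, g, sqk, hk⟩ := AlgSpThickLib.exists_thick_chart hj g'
    haveI := hk.1
    haveI : IsAffine T₀.left := isAffine_of_isAffineHom k.left
    obtain ⟨W, q, p, sq, hW⟩ := hf (Z := T₀) inferInstance g
    haveI := hW
    have sq' := IsPullback.of_hasPullback f' g'
    let α := sq'.lift (p ≫ i) ((yon S).map q ≫ (yon S).map k)
      (by rw [Category.assoc, w, reassoc_of% sq.w, sqk.w, Category.assoc])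
    have hα : IsThickMor α := AlgSpThickLib.thick_of_isPullback_map hi hj ((isThickMor_yon_map_iff k).2 hk) sq sq' w
      sqk.w.symm α (sq'.lift_fst _ _ _) (sq'.lift_snd _ _ _)
    obtain ⟨M, hM, ⟨e⟩⟩ := isRepSh_of_thick_affine (IsAlgSpace.yon_obj W)
      (isAlgSpace_pullback hX' (IsAlgSpace.yon_obj T) hY' f' g') hα (Iso.refl _)
    obtain ⟨q', p', sqM⟩ := exists_square_of_iso g' sq' e
    exact ⟨M, q', p', sqM, hM⟩
  · intro hf' T hT g
    haveI := hT
    haveI := AlgSpThickLib.mono_of_thick hj
    obtain ⟨W', q', p', sq', hW'⟩ := hf' (Z := T) hT (g ≫ j)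
    haveI := hW'
    obtain ⟨W, l, a, sqa, hl⟩ := AlgSpThickLib.exists_thick_chart hi p'
    haveI := hl.1
    haveI : IsAffine W.left := isAffine_of_isAffineHom l.left
    refine ⟨W, l ≫ q', a, ?_, inferInstance⟩
    have hbig : IsPullback a ((yon S).map (l ≫ q')) (f ≫ j) (g ≫ j) := by
      rw [← w, Functor.map_comp]
      exact sqa.paste_vert sq'
    refine IsPullback.mk' (by rw [← cancel_mono j, Category.assoc, Category.assoc]; exact hbig.w)
      (fun T φ φ' e1 e2 => hbig.hom_ext e1 e2)
      fun T c b e => ⟨hbig.lift c b (by rw [reassoc_of% e]), hbig.lift_fst _ _ _, hbig.lift_snd _ _ _⟩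

end ThickQuotLib
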