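import Groth.Agent.ThickQuotLib.Space
import Groth.Agent.AlgSpLib.OpenGlue
import Groth.Agent.AlgSpLib.ThickOpen

/-!
# A thickening of a scheme is a scheme
-/

set_option autoImplicit false
set_option linter.all false
set_option backward.isDefEq.respectTransparency false
set_option backward.isDefEq.respectTransparency.types false

noncomputable section

universe u

open CategoryTheory CategoryTheory.Limits AlgebraicGeometry AlgSp AlgSpLib

namespace ThickQuotLib

variable {S : Scheme.{u}}

/-- A thickening of a scheme is a scheme. -/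
theorem isRepSh_of_thick {F G : Sp S} (hF : IsAlgSpace F) (hG : IsAlgSpace G) {i : F ⟶ G} (hi : IsThickMor i)
    (h : IsRepSh F) : IsRepSh G := by
  obtain ⟨T, ⟨eT⟩⟩ := h
  let V : T.left.affineOpens → Over S := fun A => Over.mk (A.1.ι ≫ T.hom)
  let u : ∀ A : T.left.affineOpens, V A ⟶ T := fun A => Over.homMk A.1.ι
  let uF : ∀ A, (yon S).obj (V A) ⟶ F := fun A => (yon S).map (u A) ≫ eT.hom
  have huF : ∀ A, RepWith @IsOpenImmersion (uF A) := fun A =>
    repWith_comp ((repWith_yon_map_iff (P := (@IsOpenImmersion : MorphismProperty Scheme.{u})) (u A)).2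
      (inferInstanceAs (IsOpenImmersion A.1.ι))) (repWith_of_isIso eT.hom)
  have hbij := AlgSpThickLib.map_bijective hi
  have hopen : ∀ A, IsOpen (Points.map i '' Set.range (Points.map (uF A))) := fun A =>
    (AlgSpThickLib.isHomeomorph_map hF hG hi).isOpenMap _
      (isOpenMap_map_of_isEtaleMor (IsAlgSpace.yon_obj _) (isEtaleMor_of_openImmersion (huF A))).isOpen_range
  have key : ∀ A : T.left.affineOpens, ∃ (M : Over S) (f : (yon S).obj M ⟶ G), RepWith @IsOpenImmersion f ∧
      Set.range (Points.map f) = Points.map i '' Set.range (Points.map (uF A)) := fun A => by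
    let B := Points.map i '' Set.range (Points.map (uF A))
    let j := openSubι G B
    have hj := repWith_openSubι G (hopen A)
    have sq := IsPullback.of_hasPullback i j
    have hjP : RepWith @IsOpenImmersion (pullback.fst i j) := repWith_of_isPullback sq.flip hj
    have hr : Set.range (Points.map (uF A)) = Set.range (Points.map (pullback.fst i j)) := by
      rw [range_map_of_isPullback sq.flip, range_openSubι]
      exact (Set.preimage_image_eq _ hbij.1).symm
    obtain ⟨e, he⟩ := exists_iso_of_range_eq (huF A) hjP hr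
    haveI : IsAffine (V A).left := A.2
    have hP : IsAlgSpace (pullback i j) :=
      isAlgSpace_of_isPullback hF (isAlgSpace_openSub hG (hopen A)) hG sq
    obtain ⟨M, -, ⟨eM⟩⟩ := isRepSh_of_thick_affine hP (isAlgSpace_openSub hG (hopen A))
      (i := pullback.snd i j) (repWith_of_isPullback sq hi) e
    refine ⟨M, eM.hom ≫ j, repWith_comp (repWith_of_isIso eM.hom) hj, ?_⟩
    show Set.range (Points.map (eM.hom ≫ j)) = B
    rw [← range_openSubι G (W := B)]
    ext x
    constructor
    · rintro ⟨y, rfl⟩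
      exact ⟨Points.map eM.hom y, (Points.map_comp eM.hom j y).symm⟩
    · rintro ⟨y, rfl⟩
      refine ⟨Points.map eM.inv y, ?_⟩
      rw [← Points.map_comp, eM.inv_hom_id_assoc]
  choose M f hf hrange using key
  refine isRepSh_of_openCover f hf fun T' b t => ?_
  obtain ⟨x, hx⟩ := hbij.2 (Points.ofPt b t)
  obtain ⟨z, hz⟩ := (Points.schemeHomeo T).surjective (Points.map eT.inv x)
  obtain ⟨A, hA, hzA, -⟩ := exists_isAffineOpen_mem_and_subset (U := (⊤ : T.left.Opens)) (x := z) trivial
  refine ⟨⟨A, hA⟩, ?_⟩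
  have hxA : x ∈ Set.range (Points.map (uF ⟨A, hA⟩)) := by
    rw [← range_ofPt]
    refine ⟨⟨z, hzA⟩, ?_⟩
    show Points.ofPt ((yon S).map (u ⟨A, hA⟩) ≫ eT.hom) (⟨z, hzA⟩ : A.toScheme) = x
    rw [ofPt_yon_comp, ofPt_comp_ofScheme, Function.comp_apply,
      show (u ⟨A, hA⟩).left (⟨z, hzA⟩ : A.toScheme) = z from rfl, hz, ← Points.map_comp, eT.inv_hom_id]
    exact Points.map_id x
  have hb : Points.ofPt b t ∈ Set.range (Points.ofPt (f ⟨A, hA⟩)) := by
    rw [range_ofPt, hrange]
    exact ⟨x, hxA, hx⟩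
  obtain ⟨v, hv⟩ := hb
  obtain ⟨w, -, hw⟩ := (ofPt_eq_ofPt_iff ((hf ⟨A, hA⟩).rep.isPullback' b) v t).1 hv
  exact ⟨w, hw⟩

end ThickQuotLib
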