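import Groth.Agent.ThickQuotLib.Effective
import Mathlib.AlgebraicGeometry.Morphisms.Affine
import Mathlib.AlgebraicGeometry.Morphisms.ClosedImmersion
import Mathlib.AlgebraicGeometry.Morphisms.Etale
import Mathlib.AlgebraicGeometry.Morphisms.Flat

/-!
# Affine schemes and their rings: points, cartesian squares
-/

set_option autoImplicit false
set_option linter.all false
set_option backward.isDefEq.respectTransparency false
set_option backward.isDefEq.respectTransparency.types false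

noncomputable section

universe u

open CategoryTheory CategoryTheory.Limits AlgebraicGeometry TensorProduct

namespace ThickQuotLib

/-- The point of an affine scheme given by a map on rings. -/
def pt (X : Scheme.{u}) [IsAffine X] {T : Type u} [CommRing T] (f : Γ(X, ⊤) →+* T) :
    Spec (CommRingCat.of T) ⟶ X :=
  Spec.map (CommRingCat.ofHom f) ≫ X.isoSpec.inv

/-- The map on rings of a point of an affine scheme. -/
def evPt {X : Scheme.{u}} {T : Type u} [CommRing T] (g : Spec (CommRingCat.of T) ⟶ X) : Γ(X, ⊤) →+* T :=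
  (g.appTop ≫ (Scheme.ΓSpecIso (CommRingCat.of T)).hom).hom

theorem evPt_comp {X Y : Scheme.{u}} {T : Type u} [CommRing T] (g : Spec (CommRingCat.of T) ⟶ X) (h : X ⟶ Y) :
    evPt (g ≫ h) = (evPt g).comp h.appTop.hom := by
  rw [evPt, Scheme.Hom.comp_appTop, Category.assoc, CommRingCat.hom_comp]
  rfl

theorem evPt_pt (X : Scheme.{u}) [IsAffine X] {T : Type u} [CommRing T] (f : Γ(X, ⊤) →+* T) :
    evPt (pt X f) = f := by
  have h1 : X.isoSpec.inv.appTop = (Scheme.ΓSpecIso Γ(X, ⊤)).inv := by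
    have h3 : X.isoSpec.hom.appTop = (Scheme.ΓSpecIso Γ(X, ⊤)).hom := Scheme.toSpecΓ_appTop X
    have h4 : X.isoSpec.hom.appTop ≫ X.isoSpec.inv.appTop = 𝟙 _ := by
      rw [← Scheme.Hom.comp_appTop, Iso.inv_hom_id]; simp
    rw [h3] at h4
    exact (Iso.hom_comp_eq_id _).1 h4
  rw [evPt, pt, Scheme.Hom.comp_appTop, h1, Category.assoc, Scheme.ΓSpecIso_naturality]
  exact congrArg CommRingCat.Hom.hom (Iso.inv_hom_id_assoc (Scheme.ΓSpecIso Γ(X, ⊤)) (CommRingCat.ofHom f))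

theorem hom_ext_evPt {X : Scheme.{u}} [IsAffine X] {T : Type u} [CommRing T]
    {g g' : Spec (CommRingCat.of T) ⟶ X} (h : evPt g = evPt g') : g = g' := by
  refine ext_of_isAffine ((cancel_mono (Scheme.ΓSpecIso (CommRingCat.of T)).hom).1 ?_)
  exact CommRingCat.hom_ext h

theorem pt_comp {X Y : Scheme.{u}} [IsAffine X] [IsAffine Y] (h : X ⟶ Y) {T : Type u} [CommRing T]
    (f : Γ(X, ⊤) →+* T) : pt X f ≫ h = pt Y (f.comp h.appTop.hom) :=
  hom_ext_evPt (by rw [evPt_comp, evPt_pt, evPt_pt])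

theorem nil_ker_appTop {X Y : Scheme.{u}} [IsAffine X] [IsAffine Y] (f : X ⟶ Y) [Surjective f]
    (x : Γ(Y, ⊤)) (hx : f.appTop x = 0) : IsNilpotent x := by
  rw [← mem_nilradical, nilradical_eq_sInf, Submodule.mem_sInf]
  intro P hP
  obtain ⟨y, hy⟩ := (inferInstance : Surjective f).surj (Y.isoSpec.inv (⟨P, hP⟩ : PrimeSpectrum Γ(Y, ⊤)))
  have h1 : Spec.map f.appTop (X.isoSpec.hom y) = (⟨P, hP⟩ : PrimeSpectrum Γ(Y, ⊤)) := by
    have e : X.isoSpec.hom ≫ Spec.map f.appTop = f ≫ Y.isoSpec.hom := Scheme.isoSpec_hom_naturality f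
    rw [← Scheme.Hom.comp_apply, e, Scheme.Hom.comp_apply, hy, ← Scheme.Hom.comp_apply, Y.isoSpec.inv_hom_id]
    rfl
  have h2 : f.appTop x ∈ (X.isoSpec.hom y).asIdeal := by rw [hx]; exact Submodule.zero_mem _
  have h3 : x ∈ (PrimeSpectrum.comap f.appTop.hom (X.isoSpec.hom y)).asIdeal := h2
  have h4 : PrimeSpectrum.comap f.appTop.hom (X.isoSpec.hom y) = (⟨P, hP⟩ : PrimeSpectrum Γ(Y, ⊤)) := h1
  rw [h4] at h3
  exact h3

theorem appTop_surjective_of_closedImmersion {X Y : Scheme.{u}} [IsAffine Y] (f : X ⟶ Y) [IsClosedImmersion f] :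
    Function.Surjective f.appTop.hom :=
  (IsClosedImmersion.isAffine_surjective_of_isAffine (f := f)).2

/-- The ring of a fibre product by a closed immersion. -/
theorem surjective_and_ker_of_isPushout {R₀ R₁ R₂ P : CommRingCat.{u}} {s : R₀ ⟶ R₁} {q : R₀ ⟶ R₂}
    {i : R₁ ⟶ P} {j : R₂ ⟶ P} (h : IsPushout s q i j) (hq : Function.Surjective q.hom) :
    Function.Surjective i.hom ∧ RingHom.ker i.hom = (RingHom.ker q.hom).map s.hom := by
  let K : Ideal R₁ := (RingHom.ker q.hom).map s.hom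
  let m : R₁ ⟶ CommRingCat.of (R₁ ⧸ K) := CommRingCat.ofHom (Ideal.Quotient.mk K)
  let gK : { g : (R₀ : Type u) →+* R₁ ⧸ K // RingHom.ker q.hom ≤ RingHom.ker g } :=
    ⟨(Ideal.Quotient.mk K).comp s.hom, fun x hx =>
      RingHom.mem_ker.2 (Ideal.Quotient.eq_zero_iff_mem.2 (Ideal.mem_map_of_mem _ hx))⟩
  let m₂ : R₂ ⟶ CommRingCat.of (R₁ ⧸ K) := CommRingCat.ofHom (RingHom.liftOfSurjective q.hom hq gK)
  have hm : s ≫ m = q ≫ m₂ :=
    CommRingCat.hom_ext (RingHom.ext fun x => (RingHom.liftOfSurjective_comp_apply q.hom hq gK x).symm)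
  let ψ : P ⟶ CommRingCat.of (R₁ ⧸ K) := h.desc m m₂ hm
  have hψ : ∀ x, ψ.hom (i.hom x) = Ideal.Quotient.mk K x := fun x => by
    rw [← CommRingCat.comp_apply, h.inl_desc]; rfl
  have hker : K ≤ RingHom.ker i.hom := Ideal.map_le_iff_le_comap.2 fun x hx => by
    show i.hom (s.hom x) = 0
    rw [← CommRingCat.comp_apply, h.w, CommRingCat.comp_apply, RingHom.mem_ker.1 hx, map_zero]
  let ρ : CommRingCat.of (R₁ ⧸ K) ⟶ P := CommRingCat.ofHom (Ideal.Quotient.lift K i.hom fun x hx => hker hx)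
  have hρψ : ψ ≫ ρ = 𝟙 P := h.hom_ext
    (by rw [← Category.assoc, h.inl_desc, Category.comp_id]; exact CommRingCat.hom_ext (RingHom.ext fun x => rfl))
    (by
      rw [← Category.assoc, h.inr_desc, Category.comp_id]
      refine CommRingCat.hom_ext (RingHom.ext fun x => ?_)
      obtain ⟨y, rfl⟩ := hq x
      show ρ.hom (m₂.hom (q.hom y)) = j.hom (q.hom y)
      rw [show m₂.hom (q.hom y) = Ideal.Quotient.mk K (s.hom y) from
        (RingHom.congr_fun (congrArg CommRingCat.Hom.hom hm) y).symm]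
      exact (Ideal.Quotient.lift_mk K i.hom fun x hx => hker hx).trans (RingHom.congr_fun (congrArg CommRingCat.Hom.hom h.w) y))
  refine ⟨fun z => ?_, le_antisymm (fun x hx => Ideal.Quotient.eq_zero_iff_mem.1 ?_) hker⟩
  · obtain ⟨x, hx⟩ := Ideal.Quotient.mk_surjective (ψ.hom z)
    refine ⟨x, ?_⟩
    have h1 : ρ.hom (ψ.hom z) = z := RingHom.congr_fun (congrArg CommRingCat.Hom.hom hρψ) z
    rw [← hx] at h1
    exact h1
  · rw [← hψ, RingHom.mem_ker.1 hx, map_zero]

/-- The ring of a cartesian square of affine schemes is the tensor product. -/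
theorem exists_tensor_equiv {P X Y Z : Scheme.{u}} [IsAffine X] [IsAffine Y] [IsAffine Z] {fst : P ⟶ X} {snd : P ⟶ Y}
    {f : X ⟶ Z} {g : Y ⟶ Z} (h : IsPullback fst snd f g) :
    letI : Algebra Γ(Z, ⊤) Γ(X, ⊤) := f.appTop.hom.toAlgebra
    letI : Algebra Γ(Z, ⊤) Γ(Y, ⊤) := g.appTop.hom.toAlgebra
    ∃ e : Γ(P, ⊤) ≃+* Γ(X, ⊤) ⊗[Γ(Z, ⊤)] Γ(Y, ⊤),
      (∀ x, e (fst.appTop.hom x) = x ⊗ₜ 1) ∧ ∀ y, e (snd.appTop.hom y) = 1 ⊗ₜ y := by
  letI : Algebra Γ(Z, ⊤) Γ(X, ⊤) := f.appTop.hom.toAlgebra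
  letI : Algebra Γ(Z, ⊤) Γ(Y, ⊤) := g.appTop.hom.toAlgebra
  have h1 := isPushout_appTop_of_isPullback h
  have h2 : IsPushout f.appTop g.appTop _ _ := CommRingCat.isPushout_tensorProduct Γ(Z, ⊤) Γ(X, ⊤) Γ(Y, ⊤)
  let E := h1.isoIsPushout _ _ h2
  refine ⟨E.commRingCatIsoToRingEquiv, fun x => ?_, fun y => ?_⟩
  · exact RingHom.congr_fun (congrArg CommRingCat.Hom.hom (h1.inl_isoIsPushout_hom _ _ h2)) x
  · exact RingHom.congr_fun (congrArg CommRingCat.Hom.hom (h1.inr_isoIsPushout_hom _ _ h2)) y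

/-- A square of affine schemes whose ring is the tensor product is cartesian. -/
theorem isPullback_of_tensor {A B C : CommRingCat.{u}} [Algebra A B]
    (s t : B ⟶ C) (e : B ⊗[A] B →+* C) (he : Function.Bijective e) (hs : ∀ x, e (x ⊗ₜ 1) = s.hom x)
    (ht : ∀ x, e (1 ⊗ₜ x) = t.hom x) :
    IsPullback (Spec.map s) (Spec.map t) (Spec.map (CommRingCat.ofHom (algebraMap A B)))
      (Spec.map (CommRingCat.ofHom (algebraMap A B))) := by
  refine isPullback_SpecMap_of_isPushout _ _ _ _ ?_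
  refine (CommRingCat.isPushout_tensorProduct A B B).of_iso (Iso.refl _) (Iso.refl _) (Iso.refl _)
    (RingEquiv.toCommRingCatIso (RingEquiv.ofBijective e he)) ?_ ?_ ?_ ?_
  · simp
  · simp
  · exact CommRingCat.hom_ext (RingHom.ext fun x => (hs x))
  · exact CommRingCat.hom_ext (RingHom.ext fun x => (ht x))

/-- Transport a cartesian square of spectra to affine schemes. -/
theorem isPullback_affine {P X : Scheme.{u}} [IsAffine P] [IsAffine X] {fst snd : P ⟶ X} {Z : Scheme.{u}} {m : Spec Γ(X, ⊤) ⟶ Z}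
    (h : IsPullback (Spec.map fst.appTop) (Spec.map snd.appTop) m m) :
    IsPullback fst snd (X.isoSpec.hom ≫ m) (X.isoSpec.hom ≫ m) := by
  refine h.of_iso P.isoSpec.symm X.isoSpec.symm X.isoSpec.symm (Iso.refl _) ?_ ?_ ?_ ?_
  · exact Scheme.isoSpec_inv_naturality fst
  · exact Scheme.isoSpec_inv_naturality snd
  · simp
  · simp

end ThickQuotLib
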