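import Mathlib.RingTheory.Smooth.NoetherianDescent
import Mathlib.RingTheory.Etale.Basic
import Mathlib.RingTheory.Flat.FaithfullyFlat.Algebra
import Mathlib.RingTheory.Spectrum.Prime.RingHom
import Mathlib.RingTheory.Spectrum.Prime.Chevalley
import Mathlib.RingTheory.LocalRing.ResidueField.Ideal
import Mathlib.RingTheory.Polynomial.Basic
import Mathlib.RingTheory.FiniteType
import Mathlib.RingTheory.Spectrum.Prime.Topology
import Mathlib.RingTheory.Unramified.LocalStructure
import Mathlib.RingTheory.Etale.StandardEtale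

/-!
# Noetherian models of étale coverings, and bounds on their fibres
-/

set_option autoImplicit false
set_option linter.all false

noncomputable section

universe u

open TensorProduct

namespace ThickQuotLib

theorem mem_range_of_point {R A S F : Type u} [CommRing R] [CommRing A] [CommRing S] [Field F] [Algebra R A]
    [Algebra R S] (P : PrimeSpectrum A) (gA : A →+* F) (hS : S →+* F)
    (key : gA.comp (algebraMap R A) = hS.comp (algebraMap R S)) (hker : ∀ x, gA x = 0 → x ∈ P.asIdeal)
    (hker' : ∀ x ∈ P.asIdeal, gA x = 0) :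
    P ∈ Set.range (PrimeSpectrum.comap (algebraMap A (A ⊗[R] S))) := by
  letI : Algebra R F := (gA.comp (algebraMap R A)).toAlgebra
  let ga : A →ₐ[R] F := { gA with commutes' := fun _ => rfl }
  let ha : S →ₐ[R] F := { hS with commutes' := fun r => (RingHom.congr_fun key r).symm }
  let Φ : A ⊗[R] S →ₐ[R] F := Algebra.TensorProduct.lift ga ha fun _ _ => .all _ _
  refine ⟨⟨RingHom.ker Φ.toRingHom, RingHom.ker_isPrime _⟩, PrimeSpectrum.ext ?_⟩
  show Ideal.comap (algebraMap A (A ⊗[R] S)) (RingHom.ker Φ.toRingHom) = P.asIdeal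
  ext a
  have e : Φ (a ⊗ₜ[R] (1 : S)) = gA a :=
    (Algebra.TensorProduct.lift_tmul _ _ _ _ _).trans (by rw [map_one, mul_one]; rfl)
  exact ⟨fun h => hker a (e.symm.trans h), fun h => e.trans (hker' a h)⟩

/-- Base change preserves surjectivity of a point on spectra. -/
theorem mem_range_comap_baseChange {R A S : Type u} [CommRing R] [CommRing A] [CommRing S] [Algebra R A]
    [Algebra R S] (P : PrimeSpectrum A)
    (h : PrimeSpectrum.comap (algebraMap R A) P ∈ Set.range (PrimeSpectrum.comap (algebraMap R S))) :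
    P ∈ Set.range (PrimeSpectrum.comap (algebraMap A (A ⊗[R] S))) := by
  obtain ⟨Q, hQ⟩ := h
  let p := PrimeSpectrum.comap (algebraMap R A) P
  let ρP := Ideal.ResidueField.map p.asIdeal P.asIdeal (algebraMap R A) rfl
  let ρQ := Ideal.ResidueField.map p.asIdeal Q.asIdeal (algebraMap R S) (congrArg PrimeSpectrum.asIdeal hQ).symm
  letI := ρP.toAlgebra
  letI := ρQ.toAlgebra
  let F₀ := P.asIdeal.ResidueField ⊗[p.asIdeal.ResidueField] Q.asIdeal.ResidueField
  letI := Classical.decEq F₀
  haveI : Nontrivial F₀ := inferInstance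
  obtain ⟨M, hM⟩ := Ideal.exists_maximal F₀
  letI := Ideal.Quotient.field M
  let π := Ideal.Quotient.mk M
  let g : P.asIdeal.ResidueField →+* F₀ ⧸ M := π.comp Algebra.TensorProduct.includeLeftRingHom
  let h : Q.asIdeal.ResidueField →+* F₀ ⧸ M := π.comp (Algebra.TensorProduct.includeRight
    (R := p.asIdeal.ResidueField) (A := P.asIdeal.ResidueField) (B := Q.asIdeal.ResidueField)).toRingHom
  let gA : A →+* F₀ ⧸ M := g.comp (algebraMap A _)
  let hS : S →+* F₀ ⧸ M := h.comp (algebraMap S _)
  have key : gA.comp (algebraMap R A) = hS.comp (algebraMap R S) := RingHom.ext fun r => by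
    show π ((algebraMap A P.asIdeal.ResidueField (algebraMap R A r)) ⊗ₜ 1) =
      π (1 ⊗ₜ algebraMap S Q.asIdeal.ResidueField (algebraMap R S r))
    rw [← Ideal.ResidueField.map_algebraMap p.asIdeal P.asIdeal (algebraMap R A) rfl r,
      ← Ideal.ResidueField.map_algebraMap p.asIdeal Q.asIdeal (algebraMap R S) (congrArg PrimeSpectrum.asIdeal hQ).symm r]
    show π (algebraMap p.asIdeal.ResidueField P.asIdeal.ResidueField _ ⊗ₜ 1) =
      π (1 ⊗ₜ algebraMap p.asIdeal.ResidueField Q.asIdeal.ResidueField _)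
    rw [Algebra.algebraMap_eq_smul_one, Algebra.algebraMap_eq_smul_one (A := Q.asIdeal.ResidueField),
      TensorProduct.smul_tmul]
  refine mem_range_of_point P gA hS key (fun x hx => ?_) fun x hx => ?_
  · rw [← Ideal.algebraMap_residueField_eq_zero (I := P.asIdeal)]
    exact (map_eq_zero_iff g g.injective).1 hx
  · show g (algebraMap A P.asIdeal.ResidueField x) = 0
    rw [Ideal.algebraMap_residueField_eq_zero.2 hx, map_zero]

/-- An étale covering has a Noetherian model which is a covering, containing a given element. -/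
theorem exists_model {A B : Type u} [CommRing A] [CommRing B] [Algebra A B] [Algebra.Etale A B]
    (hsurj : Function.Surjective (PrimeSpectrum.comap (algebraMap A B))) (a : A) :
    ∃ (A₁ : Subalgebra ℤ A) (B₁ : Type u) (_ : CommRing B₁) (_ : Algebra A₁ B₁),
      a ∈ A₁ ∧ A₁.FG ∧ Algebra.Etale A₁ B₁ ∧ Module.FaithfullyFlat A₁ B₁ ∧
      Nonempty (B ≃ₐ[A] A ⊗[A₁] B₁) := by
  classical
  obtain ⟨A₀, B₀, _, _, hA₀, hB₀, ⟨e⟩⟩ := Algebra.Etale.exists_subalgebra_fg ℤ A B
  haveI : Algebra.FiniteType ℤ A₀ := (Subalgebra.fg_iff_finiteType A₀).mp hA₀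
  haveI : IsNoetherianRing A₀ := Algebra.FiniteType.isNoetherianRing ℤ A₀
  haveI : Module.Flat A₀ B₀ := inferInstance
  have hopen : IsOpenMap (PrimeSpectrum.comap (algebraMap A₀ B₀)) :=
    PrimeSpectrum.isOpenMap_comap_of_hasGoingDown_of_finitePresentation
  obtain ⟨J₀, hJ₀⟩ := (PrimeSpectrum.isClosed_iff_zeroLocus_ideal _).1 hopen.isOpen_range.isClosed_compl
  have htop : J₀.map (algebraMap A₀ A) = ⊤ := by
    by_contra hne
    obtain ⟨M, hM, hle⟩ := Ideal.exists_le_maximal _ hne
    obtain ⟨Q, hQ⟩ := hsurj ⟨M, hM.isPrime⟩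
    let κ : B₀ →+* B := e.symm.toAlgHom.toRingHom.comp
      (Algebra.TensorProduct.includeRight (R := A₀) (A := A) (B := B₀)).toRingHom
    have hκ : κ.comp (algebraMap A₀ B₀) = (algebraMap A B).comp (algebraMap A₀ A) := RingHom.ext fun x => by
      show e.symm (1 ⊗ₜ algebraMap A₀ B₀ x) = algebraMap A B (algebraMap A₀ A x)
      rw [← e.symm.commutes]
      congr 1
      show _ = algebraMap A₀ A x ⊗ₜ (1 : B₀)
      rw [Algebra.algebraMap_eq_smul_one, Algebra.algebraMap_eq_smul_one, TensorProduct.smul_tmul]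
    have h1 : PrimeSpectrum.comap (algebraMap A₀ A) ⟨M, hM.isPrime⟩ ∈ (Set.range (PrimeSpectrum.comap (algebraMap A₀ B₀)))ᶜ := by
      rw [hJ₀]
      exact Ideal.map_le_iff_le_comap.1 hle
    refine h1 ⟨PrimeSpectrum.comap κ Q, ?_⟩
    rw [← PrimeSpectrum.comap_comp_apply, hκ, PrimeSpectrum.comap_comp_apply, hQ]
  have h1mem : (1 : A) ∈ Ideal.span (algebraMap A₀ A '' (J₀ : Set A₀)) := (le_of_eq htop.symm) Submodule.mem_top
  obtain ⟨c, hc, hsum⟩ := (Submodule.mem_span_set).1 h1mem
  let A₁ : Subalgebra ℤ A := A₀ ⊔ Algebra.adjoin ℤ ↑(insert a (c.support.image c))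
  have hA₁ : A₁.FG := hA₀.sup (Subalgebra.fg_adjoin_finset _)
  have hmem : ∀ x, x ∈ Algebra.adjoin ℤ (↑(insert a (c.support.image c)) : Set A) → x ∈ A₁ :=
    fun x hx => (le_sup_right (a := A₀) : _ ≤ A₁) hx
  let inc : A₀ →ₐ[ℤ] A₁ := Subalgebra.inclusion le_sup_left
  letI := inc.toRingHom.toAlgebra
  haveI : IsScalarTower A₀ A₁ A := IsScalarTower.of_algebraMap_eq fun x => rfl
  let B₁ := A₁ ⊗[A₀] B₀
  haveI : Algebra.Etale A₁ B₁ := inferInstance
  have hcov : Function.Surjective (PrimeSpectrum.comap (algebraMap A₁ B₁)) := fun P => by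
    refine mem_range_comap_baseChange P ?_
    by_contra hP
    have hP' : J₀ ≤ Ideal.comap (algebraMap A₀ A₁) P.asIdeal := by
      have := hJ₀.le hP
      exact this
    refine P.isPrime.ne_top ((Ideal.eq_top_iff_one _).2 ?_)
    have hx : ∀ y ∈ c.support, ∃ j ∈ J₀, algebraMap A₀ A j = y := fun y hy => hc hy
    choose! j hj hjy using hx
    let z : A₁ := ∑ y ∈ c.support.attach, (⟨c y, hmem _ (Algebra.subset_adjoin
      (Finset.mem_coe.2 (Finset.mem_insert_of_mem (Finset.mem_image_of_mem _ y.2))))⟩ : A₁) * inc (j y)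
    have hz : z ∈ P.asIdeal := Ideal.sum_mem _ fun y _ => Ideal.mul_mem_left _ _ (hP' (hj y y.2))
    have hz1 : z = 1 := Subtype.val_injective (by
      show A₁.val z = 1
      rw [map_sum]
      refine Eq.trans ?_ hsum
      rw [Finsupp.sum, ← Finset.sum_attach c.support]
      refine Finset.sum_congr rfl fun y _ => ?_
      rw [map_mul, smul_eq_mul]
      exact congrArg (c y * ·) (hjy y y.2))
    rwa [hz1] at hz
  refine ⟨A₁, B₁, inferInstance, inferInstance, hmem a (Algebra.subset_adjoin (Finset.mem_coe.2 (Finset.mem_insert_self _ _))), hA₁, inferInstance,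
    Module.FaithfullyFlat.of_comap_surjective hcov, ⟨e.trans (Algebra.TensorProduct.cancelBaseChange A₀ A₁ A A B₀).symm⟩⟩

/-- The points of an étale algebra above a field valued point are bounded in number. -/
theorem exists_points_bound (A B : Type u) [CommRing A] [CommRing B] [Algebra A B] [Algebra.Etale A B] :
    ∃ d : ℕ, ∀ (F : Type u) [Field F] (φ : A →+* F) (m : ℕ) (x : Fin m → B →+* F),
      Function.Injective x → (∀ i, (x i).comp (algebraMap A B) = φ) → m ≤ d := by
  classical
  have hloc : ∀ Q : PrimeSpectrum B, ∃ f ∉ Q.asIdeal, Algebra.IsStandardEtale A (Localization.Away f) := fun Q =>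
    Algebra.IsEtaleAt.exists_isStandardEtale (R := A) Q.asIdeal
  choose f hf hstd using hloc
  let P := fun Q => (hstd Q).nonempty_standardEtalePresentation.some
  have h1 : (1 : B) ∈ Ideal.span (Set.range f) := by
    by_contra h
    obtain ⟨M, hM, hle⟩ := Ideal.exists_le_maximal _ (mt (Ideal.eq_top_iff_one _).1 h)
    exact hf ⟨M, hM.isPrime⟩ (hle (Ideal.subset_span ⟨⟨M, hM.isPrime⟩, rfl⟩))
  obtain ⟨c, hsum⟩ := Finsupp.mem_span_range_iff_exists_finsupp.1 h1
  refine ⟨∑ Q ∈ c.support, (P Q).P.f.natDegree, fun F _ φ m x hinj hx => ?_⟩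
  letI := φ.toAlgebra
  have hex : ∀ i, ∃ Q ∈ c.support, x i (f Q) ≠ 0 := fun i => by
    by_contra hh
    push_neg at hh
    refine one_ne_zero (α := F) ?_
    rw [← map_one (x i), ← hsum, Finsupp.sum, map_sum]
    exact Finset.sum_eq_zero fun Q hQ => by rw [smul_eq_mul, map_mul, hh Q hQ, mul_zero]
  choose Q hQ hQne using hex
  let xa : Fin m → B →ₐ[A] F := fun i => { x i with commutes' := fun a => RingHom.congr_fun (hx i) a }
  let ext : ∀ i, Localization.Away (f (Q i)) →ₐ[A] F := fun i =>
    IsLocalization.liftAlgHom (M := Submonoid.powers (f (Q i))) (f := xa i) fun y => by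
      obtain ⟨_, n, rfl⟩ := y
      show IsUnit (x i (f (Q i) ^ n))
      rw [map_pow]
      exact (isUnit_iff_ne_zero.2 (hQne i)).pow n
  let root : Fin m → F := fun i => ext i (P (Q i)).x
  let S := c.support.sigma fun Q => ((P Q).P.f.map (algebraMap A F)).roots.toFinset
  let key : Fin m → Σ _ : PrimeSpectrum B, F := fun i => ⟨Q i, root i⟩
  have hkey : ∀ i, key i ∈ S := fun i => by
    refine Finset.mem_sigma.2 ⟨hQ i, ?_⟩
    rw [Multiset.mem_toFinset, Polynomial.mem_roots ((P (Q i)).P.monic_f.map _).ne_zero, Polynomial.IsRoot,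
      Polynomial.eval_map, ← Polynomial.aeval_def, Polynomial.aeval_algHom_apply, (P (Q i)).hasMap.1, map_zero]
  have hkinj : Function.Injective key := fun i k hik => hinj <| RingHom.ext fun b => by
    have hQeq : Q i = Q k := congrArg Sigma.fst hik
    have hr : root i = root k := congrArg Sigma.snd hik
    have gen : ∀ (Q' : PrimeSpectrum B) (g g' : Localization.Away (f Q') →ₐ[A] F), g (P Q').x = g' (P Q').x → g = g' :=
      fun Q' g g' hg => (P Q').hom_ext hg
    revert hr
    simp only [root]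
    generalize hgi : ext i = gi
    generalize hgk : ext k = gk
    intro hr
    have hbi : x i b = gi (algebraMap B _ b) := by rw [← hgi]; exact (IsLocalization.lift_eq _ b).symm
    have hbk : x k b = gk (algebraMap B _ b) := by rw [← hgk]; exact (IsLocalization.lift_eq _ b).symm
    rw [hbi, hbk]
    clear hgi hgk hbi hbk
    revert gi gk
    rw [← hQeq]
    intro gi gk hr
    rw [gen _ gi gk hr]
  calc m = (Finset.univ.image key).card := by rw [Finset.card_image_of_injective _ hkinj, Finset.card_univ, Fintype.card_fin]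
    _ ≤ S.card := Finset.card_le_card fun y hy => by
      obtain ⟨i, -, rfl⟩ := Finset.mem_image.1 hy; exact hkey i
    _ = ∑ Q ∈ c.support, ((P Q).P.f.map (algebraMap A F)).roots.toFinset.card := Finset.card_sigma _ _
    _ ≤ _ := Finset.sum_le_sum fun Q _ => (Multiset.toFinset_card_le _).trans
      ((Polynomial.card_roots' _).trans Polynomial.natDegree_map_le)

end ThickQuotLib
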