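import Groth.Agent.AlgSpLib.NilLiftAlg

/-!
# Étale algebras along nil ideals
-/

set_option autoImplicit false
set_option linter.all false

noncomputable section

universe u

open TensorProduct

namespace ThickQuotLib

theorem ext_of_nil {R E T : Type u} [CommRing R] [CommRing E] [CommRing T] [Algebra R E] [Algebra R T]
    [Algebra.FiniteType R E] [Algebra.FormallyUnramified R E] (f g : E →ₐ[R] T)
    (h : ∀ e, IsNilpotent (f e - g e)) : f = g := by
  classical
  obtain ⟨G, hG⟩ := Algebra.FiniteType.out (R := R) (A := E)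
  let K : Ideal T := Ideal.span ↑(G.image fun e => f e - g e)
  have hK : IsNilpotent K := (Ideal.FG.isNilpotent_iff_le_nilradical ⟨_, rfl⟩).2 (Ideal.span_le.2 fun x hx => by
    obtain ⟨e, -, rfl⟩ := Finset.mem_image.1 hx
    exact h e)
  have h1 : (Ideal.Quotient.mkₐ R K).comp f = (Ideal.Quotient.mkₐ R K).comp g :=
    AlgHom.ext_of_adjoin_eq_top hG fun e he =>
      Ideal.Quotient.eq.2 (Ideal.subset_span (Finset.mem_image.2 ⟨e, he, rfl⟩))
  exact Algebra.FormallyUnramified.ext (I := K) hK fun x => AlgHom.congr_fun h1 x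

theorem lift_of_nil {R E T T' : Type u} [CommRing R] [CommRing E] [CommRing T] [CommRing T'] [Algebra R E]
    [Algebra R T] [Algebra R T'] [Algebra.Smooth R E] (π : T →ₐ[R] T') (hπ : Function.Surjective π)
    (hnil : ∀ x, π x = 0 → IsNilpotent x) (g : E →ₐ[R] T') : ∃ f : E →ₐ[R] T, π.comp f = g := by
  let e := Ideal.quotientKerAlgEquivOfSurjective (f := π) hπ
  obtain ⟨f, hf⟩ := AlgSpLib.exists_lift_of_nil (A := R) (RingHom.ker π) (fun x hx => hnil x hx)
    (e.symm.toAlgHom.comp g)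
  refine ⟨f, AlgHom.ext fun x => ?_⟩
  have h1 : Ideal.Quotient.mk (RingHom.ker π) (f x) = e.symm (g x) := AlgHom.congr_fun hf x
  have h2 := congrArg e h1
  rw [AlgEquiv.apply_symm_apply] at h2
  exact (Ideal.quotientKerAlgEquivOfSurjective_mk hπ (f x)).symm.trans h2

/-- A map of étale algebras which is bijective modulo nil ideals is bijective. -/
theorem bijective_of_nil {R E E' Q : Type u} [CommRing R] [CommRing E] [CommRing E'] [CommRing Q] [Algebra R E]
    [Algebra R E'] [Algebra R Q] [Algebra.Etale R E] [Algebra.Etale R E'] (ψ : E →ₐ[R] E') (π : E' →ₐ[R] Q)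
    (hnil : ∀ x, π x = 0 → IsNilpotent x) (hsurj : Function.Surjective (π.comp ψ))
    (hker : ∀ x, π (ψ x) = 0 → IsNilpotent x) : Function.Bijective ψ := by
  obtain ⟨ρ, hρ⟩ := lift_of_nil (π.comp ψ) hsurj hker π
  have h1 : ψ.comp ρ = AlgHom.id R E' := ext_of_nil _ _ fun x => hnil _ (by
    show π (ψ (ρ x) - x) = 0
    rw [map_sub, sub_eq_zero]
    exact AlgHom.congr_fun hρ x)
  have h2 : ρ.comp ψ = AlgHom.id R E := ext_of_nil _ _ fun x => hker _ (by
    show π (ψ (ρ (ψ x) - x)) = 0
    rw [map_sub, map_sub, sub_eq_zero]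
    exact AlgHom.congr_fun hρ (ψ x))
  exact ⟨fun x y hxy => (AlgHom.congr_fun h2 x).symm.trans ((congrArg ρ hxy).trans (AlgHom.congr_fun h2 y)),
    fun x => ⟨ρ x, AlgHom.congr_fun h1 x⟩⟩

end ThickQuotLib
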