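import Groth.Agent.ThickQuotLib.Rel
import Mathlib.RingTheory.Flat.FaithfullyFlat.Algebra
import Mathlib.Algebra.Module.Torsion.Basic

/-!
# The square zero step: a cocycle is a coboundary when the reduced relation has a model
-/

set_option autoImplicit false
set_option linter.all false

noncomputable section

universe u

open TensorProduct

namespace ThickQuotLib

namespace EtRel

variable {B C : Type u} [CommRing B] [CommRing C] (r : EtRel B C)

theorem h1_step {H J : Ideal B} (hH : H.map r.s = H.map r.t) (hJ : J.map r.s = J.map r.t)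
    {A₁ B₁ : Type u} [CommRing A₁] [CommRing B₁] [Algebra A₁ B₁] [Module.FaithfullyFlat A₁ B₁]
    (α : A₁ →+* B ⧸ H) (hα : ∀ x b, Ideal.Quotient.mk H b = α x → r.s b - r.t b ∈ H.map r.s)
    (φ : B₁ →+* B ⧸ H)
    (hψ : ∀ c : C ⧸ H.map r.s, ∀ S : AddSubgroup (C ⧸ H.map r.s),
      (∀ b b', Ideal.Quotient.mk (H.map r.s) (r.s b * r.t b') ∈ S ∨ Ideal.Quotient.mk H b' ∉ Set.range φ) → c ∈ S)
    [Algebra A₁ (C ⧸ H.map r.s)]
    (halg : ∀ x b, Ideal.Quotient.mk H b = α x → algebraMap A₁ (C ⧸ H.map r.s) x = Ideal.Quotient.mk (H.map r.s) (r.s b))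
    (η : C →+* (C ⧸ H.map r.s) ⊗[A₁] B₁)
    (hηs : ∀ b, η (r.s b) = Ideal.Quotient.mk (H.map r.s) (r.s b) ⊗ₜ[A₁] (1 : B₁))
    (hηt : ∀ b β, Ideal.Quotient.mk H b = φ β → η (r.t b) = (1 : C ⧸ H.map r.s) ⊗ₜ[A₁] β)
    {b : B} (hb : r.s b - r.t b ∈ J.map r.s) :
    ∃ j ∈ J, (r.s b - r.t b) - (r.s j - r.t j) ∈ (H * J).map r.s := by
  classical
  let Hc : Ideal C := H.map r.s
  let Lc : Ideal C := (H * J).map r.s
  let Jc : Ideal C := J.map r.s
  have hHJ : Hc * Jc ≤ Lc := (Ideal.map_mul r.s H J).ge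
  let M : Submodule C (C ⧸ Lc) := Submodule.map (Ideal.Quotient.mkₐ C Lc).toLinearMap Jc
  have hM : Module.IsTorsionBySet C M Hc := by
    rintro ⟨x, y, hy, rfl⟩ ⟨h, hh⟩
    refine Subtype.ext ?_
    show h • Ideal.Quotient.mk Lc y = 0
    rw [Algebra.smul_def, Ideal.Quotient.algebraMap_eq, ← map_mul, Ideal.Quotient.eq_zero_iff_mem]
    exact hHJ (Ideal.mul_mem_mul hh hy)
  letI : Module (C ⧸ Hc) M := hM.module
  letI : Module A₁ M := Module.compHom M (algebraMap A₁ (C ⧸ Hc))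
  haveI : IsScalarTower A₁ (C ⧸ Hc) M := ⟨fun a x m => by
    rw [Algebra.smul_def, mul_smul]; rfl⟩
  have hsJ : ∀ {j}, j ∈ J → r.s j - r.t j ∈ Jc := fun {j} hj =>
    Jc.sub_mem (Ideal.mem_map_of_mem _ hj) (by show r.t j ∈ J.map r.s; rw [hJ]; exact Ideal.mem_map_of_mem _ hj)
  let D : J → M := fun j => ⟨Ideal.Quotient.mk Lc (r.s j - r.t j), _, hsJ j.2, rfl⟩
  have hD : ∀ j₁ j₂, D (j₁ + j₂) = D j₁ + D j₂ := fun j₁ j₂ => Subtype.ext (by
    show Ideal.Quotient.mk Lc _ = Ideal.Quotient.mk Lc _ + Ideal.Quotient.mk Lc _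
    rw [← map_add, Submodule.coe_add, map_add, map_add]; congr 1; ring)
  let Im : Submodule A₁ M :=
    { carrier := Set.range D
      add_mem' := by rintro _ _ ⟨a, rfl⟩ ⟨a', rfl⟩; exact ⟨a + a', hD a a'⟩
      zero_mem' := ⟨0, Subtype.ext (by show Ideal.Quotient.mk Lc _ = 0; simp)⟩
      smul_mem' := by
        rintro a _ ⟨j, rfl⟩
        obtain ⟨a', ha'⟩ := Ideal.Quotient.mk_surjective (α a)
        refine ⟨⟨a' * j, J.mul_mem_left _ j.2⟩, Subtype.ext ?_⟩
        have hsm : algebraMap A₁ (C ⧸ Hc) a = Ideal.Quotient.mk Hc (r.s a') := halg a a' ha'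
        show Ideal.Quotient.mk Lc _ = ((algebraMap A₁ (C ⧸ Hc) a) • D j : M).1
        rw [hsm]
        show Ideal.Quotient.mk Lc _ = r.s a' • Ideal.Quotient.mk Lc (r.s j - r.t j)
        rw [Algebra.smul_def, Ideal.Quotient.algebraMap_eq, ← map_mul, Ideal.Quotient.eq]
        have : r.s (a' * j) - r.t (a' * j) - r.s a' * (r.s j - r.t j) = (r.s a' - r.t a') * r.t (j : B) := by
          rw [map_mul, map_mul]; ring
        rw [this]
        refine hHJ (Ideal.mul_mem_mul (hα a a' ha') ?_)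
        show r.t j ∈ J.map r.s
        rw [hJ]; exact Ideal.mem_map_of_mem _ j.2 }
  let δ : M := ⟨Ideal.Quotient.mk Lc (r.s b - r.t b), _, hb, rfl⟩
  suffices hmain : δ ∈ Im by
    obtain ⟨j, hj⟩ := hmain
    refine ⟨j, j.2, Ideal.Quotient.eq.1 ?_⟩
    exact (congrArg Subtype.val hj).symm
  -- the ring of pairs of related points with the same first point
  letI := r.s.toAlgebra
  haveI : Algebra.Etale B C := r.etale
  let T := C ⊗[B] C
  let inl : C →+* T := Algebra.TensorProduct.includeLeftRingHom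
  let inr : C →+* T := (Algebra.TensorProduct.includeRight (R := B) (A := C) (B := C)).toRingHom
  have hls : inl.comp r.s = inr.comp r.s := RingHom.ext fun x => by
    show (algebraMap B C x) ⊗ₜ[B] (1 : C) = (1 : C) ⊗ₜ[B] (algebraMap B C x)
    rw [Algebra.algebraMap_eq_smul_one, TensorProduct.smul_tmul]
  obtain ⟨g₀, hg₀s, hg₀t⟩ := r.symm inl
  obtain ⟨g, hgs, hgt⟩ := r.trans g₀ inr (by rw [hg₀t, hls])
  rw [hg₀s] at hgs
  let LT : Ideal T := Lc.map (algebraMap C T)
  have hinl : ∀ x ∈ Lc, inl x ∈ LT := fun x hx => Ideal.mem_map_of_mem _ hx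
  have hinr : ∀ x ∈ Lc, inr x ∈ LT := fun x hx => by
    have h1 : Lc ≤ LT.comap inr := by
      refine Ideal.map_le_iff_le_comap.2 ?_
      intro y hy
      show inr (r.s y) ∈ LT
      rw [← RingHom.comp_apply, ← hls]
      exact hinl _ (Ideal.mem_map_of_mem _ hy)
    exact h1 hx
  have hHJt : (H * J).map r.s = (H * J).map r.t := by rw [Ideal.map_mul, Ideal.map_mul, hH, hJ]
  have hg : ∀ x ∈ Lc, g x ∈ LT := fun x hx => by
    have h1 : Lc ≤ LT.comap g := by
      refine Ideal.map_le_iff_le_comap.2 ?_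
      intro y hy
      show g (r.s y) ∈ LT
      rw [← RingHom.comp_apply, hgs]
      exact hinl _ (by show r.t y ∈ (H * J).map r.s; rw [hHJt]; exact Ideal.mem_map_of_mem _ hy)
    exact h1 hx
  -- the contraction
  let θ : T →+* (C ⧸ Hc) ⊗[A₁] B₁ :=
    (Algebra.TensorProduct.lift
      ({ (Algebra.TensorProduct.includeLeftRingHom : C ⧸ Hc →+* (C ⧸ Hc) ⊗[A₁] B₁).comp (Ideal.Quotient.mk Hc) with
          commutes' := fun x => rfl } : C →ₐ[B] (C ⧸ Hc) ⊗[A₁] B₁)
      ({ η with commutes' := fun x => hηs x } : C →ₐ[B] (C ⧸ Hc) ⊗[A₁] B₁) fun _ _ => .all _ _).toRingHom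
  have hθl : ∀ c, θ (inl c) = Ideal.Quotient.mk Hc c ⊗ₜ[A₁] (1 : B₁) := fun c =>
    (Algebra.TensorProduct.lift_tmul _ _ _ _ _).trans (by rw [map_one, mul_one]; rfl)
  have hθr : ∀ c, θ (inr c) = η c := fun c =>
    (Algebra.TensorProduct.lift_tmul _ _ _ _ _).trans (by rw [map_one, one_mul]; rfl)
  let act : M → ((C ⧸ Hc) ⊗[A₁] B₁ →ₗ[A₁] B₁ ⊗[A₁] M) := fun m =>
    (TensorProduct.comm A₁ M B₁).toLinearMap ∘ₗ
      LinearMap.rTensor B₁ ((LinearMap.toSpanSingleton (C ⧸ Hc) M m).restrictScalars A₁)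
  have hact : ∀ m x β, act m (x ⊗ₜ β) = β ⊗ₜ (x • m) := fun m x β => rfl
  have hact_add : ∀ m m' z, act (m + m') z = act m z + act m' z := fun m m' z => by
    induction z with
    | zero => simp
    | tmul x β => rw [hact, hact, hact, smul_add, TensorProduct.tmul_add]
    | add z z' hz hz' => rw [map_add, map_add, map_add, hz, hz']; abel
  let Λ : T ⊗[C] M →+ B₁ ⊗[A₁] M := TensorProduct.liftAddHom
    { toFun := fun τ => AddMonoidHom.mk' (fun m => act m (θ τ)) fun m m' => hact_add m m' _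
      map_zero' := AddMonoidHom.ext fun m => by
        show act m (θ 0) = 0
        rw [map_zero, map_zero]
      map_add' := fun τ τ' => AddMonoidHom.ext fun m => by
        show act m (θ (τ + τ')) = act m (θ τ) + act m (θ τ')
        rw [map_add, map_add] }
    (fun c τ m => by
      show act m (θ (c • τ)) = act (c • m) (θ τ)
      have hc : c • τ = inl c * τ := Algebra.smul_def c τ
      rw [hc, map_mul, hθl]
      generalize θ τ = z
      induction z with
      | zero => simp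
      | tmul x β =>
        rw [Algebra.TensorProduct.tmul_mul_tmul, one_mul, hact, hact, mul_smul, smul_comm]
        rfl
      | add z z' hz hz' => rw [mul_add, map_add, map_add, hz, hz'])
  have hΛ : ∀ τ m, Λ (τ ⊗ₜ m) = act m (θ τ) := fun τ m => rfl
  let val : T ⊗[C] M →+ T ⧸ LT :=
    ((Algebra.TensorProduct.quotIdealMapEquivTensorQuot T Lc).symm.toAddEquiv.toAddMonoidHom).comp
      (M.subtype.lTensor T).toAddMonoidHom
  have hval : ∀ τ c (hc : c ∈ Jc), val (τ ⊗ₜ ⟨Ideal.Quotient.mk Lc c, c, hc, rfl⟩) = Ideal.Quotient.mk LT (inl c * τ) := by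
    intro τ c hc
    show (Algebra.TensorProduct.quotIdealMapEquivTensorQuot T Lc).symm (τ ⊗ₜ Ideal.Quotient.mk Lc c) = _
    rw [Algebra.TensorProduct.quotIdealMapEquivTensorQuot_symm_tmul]
    exact congrArg (Ideal.Quotient.mk LT) (Algebra.smul_def c τ)
  have hinj : Function.Injective val :=
    (Algebra.TensorProduct.quotIdealMapEquivTensorQuot T Lc).symm.injective.comp
      (Module.Flat.lTensor_preserves_injective_linearMap (M := T) M.subtype Subtype.val_injective)
  let proj := LinearMap.lTensor B₁ Im.mkQ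
  let Ω : AddSubgroup C :=
    { carrier := {x | ∃ z, proj (Λ z) = 0 ∧ val z = Ideal.Quotient.mk LT (inr x - g x)}
      zero_mem' := ⟨0, by rw [map_zero, map_zero], by simp⟩
      add_mem' := by
        rintro x y ⟨z, hz, hzv⟩ ⟨z', hz', hzv'⟩
        exact ⟨z + z', by rw [map_add, map_add, hz, hz', add_zero],
          by rw [map_add, hzv, hzv', ← map_add]; congr 1; rw [map_add, map_add]; ring⟩
      neg_mem' := by
        rintro x ⟨z, hz, hzv⟩
        exact ⟨-z, by rw [map_neg, map_neg, hz, neg_zero],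
          by rw [map_neg, hzv, ← map_neg]; congr 1; rw [map_neg, map_neg]; ring⟩ }
  have hΩL : ∀ x ∈ Lc, x ∈ Ω := fun x hx => ⟨0, by rw [map_zero, map_zero], by
    rw [map_zero, eq_comm, Ideal.Quotient.eq_zero_iff_mem]; exact LT.sub_mem (hinr x hx) (hg x hx)⟩
  have hΩgen : ∀ j ∈ J, ∀ b' : B, Ideal.Quotient.mk H b' ∈ Set.range φ → r.s j * r.t b' ∈ Ω := by
    intro j hj b' ⟨β, hβ⟩
    refine ⟨inr (r.t b') ⊗ₜ D ⟨j, hj⟩, ?_, ?_⟩
    · rw [hΛ, hθr, hηt b' β hβ.symm, hact, one_smul, LinearMap.lTensor_tmul,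
        (Submodule.Quotient.mk_eq_zero Im).2 ⟨_, rfl⟩ |> fun h : Im.mkQ (D ⟨j, hj⟩) = 0 => h, TensorProduct.tmul_zero]
    · rw [show D ⟨j, hj⟩ = ⟨Ideal.Quotient.mk Lc (r.s j - r.t j), _, hsJ hj, rfl⟩ from rfl, hval _ _ (hsJ hj), Ideal.Quotient.eq]
      convert LT.zero_mem using 1
      rw [map_sub, map_mul, map_mul, ← g.comp_apply r.s, ← g.comp_apply r.t, hgs, hgt, ← inr.comp_apply r.s, ← hls,
        RingHom.comp_apply, RingHom.comp_apply, RingHom.comp_apply]
      ring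
  have hΩ : ∀ x ∈ Jc, x ∈ Ω := fun x hx => by
    refine Submodule.span_induction (p := fun x _ => ∀ c, c * x ∈ Ω) ?_ ?_ ?_ ?_ hx 1 |> fun h => by rwa [one_mul] at h
    · rintro _ ⟨j, hj, rfl⟩ c
      let S : AddSubgroup (C ⧸ Hc) :=
        { carrier := {y | ∀ c, Ideal.Quotient.mk Hc c = y → c * r.s j ∈ Ω}
          zero_mem' := fun c hc => hΩL _ (hHJ (Ideal.mul_mem_mul (Ideal.Quotient.eq_zero_iff_mem.1 hc) (Ideal.mem_map_of_mem _ hj)))
          add_mem' := by
            intro y y' hy hy' c hc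
            obtain ⟨c₁, rfl⟩ := Ideal.Quotient.mk_surjective y
            have h2 := hy' (c - c₁) (by rw [map_sub, hc, add_sub_cancel_left])
            have h3 := Ω.add_mem (hy c₁ rfl) h2
            rwa [← add_mul, add_sub_cancel] at h3
          neg_mem' := by
            intro y hy c hc
            have h2 := Ω.neg_mem (hy (-c) (by rw [map_neg, hc, neg_neg]))
            rwa [neg_mul, neg_neg] at h2 }
      refine hψ (Ideal.Quotient.mk Hc c) S (fun b₁ b' => ?_) c rfl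
      by_cases hb' : Ideal.Quotient.mk H b' ∈ Set.range φ
      · refine Or.inl fun c' hc' => ?_
        have h1 : (c' - r.s b₁ * r.t b') * r.s j ∈ Ω :=
          hΩL _ (hHJ (Ideal.mul_mem_mul (Ideal.Quotient.eq.1 hc') (Ideal.mem_map_of_mem _ hj)))
        have h2 := Ω.add_mem h1 (hΩgen (b₁ * j) (J.mul_mem_left _ hj) b' hb')
        rwa [map_mul, sub_mul, show r.s b₁ * r.s j * r.t b' = r.s b₁ * r.t b' * r.s j by ring, sub_add_cancel] at h2
      · exact Or.inr hb'
    · intro c; rw [mul_zero]; exact Ω.zero_mem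
    · intro x y _ _ hx hy c; rw [mul_add]; exact Ω.add_mem (hx c) (hy c)
    · intro a x _ hx c; rw [smul_eq_mul, ← mul_assoc]; exact hx _
  obtain ⟨z, hz, hzv⟩ := hΩ _ hb
  have hcocycle : inr (r.s b - r.t b) - g (r.s b - r.t b) = inl (r.s b - r.t b) := by
    simp only [map_sub, ← RingHom.comp_apply, hgs, hgt, hls]
    ring
  have hzd : z = (1 : T) ⊗ₜ δ := hinj (by rw [hzv, hcocycle, hval _ _ hb, mul_one])
  rw [hzd, hΛ, map_one, Algebra.TensorProduct.one_def, hact, one_smul, LinearMap.lTensor_tmul] at hz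
  have h0 : Im.mkQ δ = 0 := Module.FaithfullyFlat.tensorProduct_mk_injective (A := A₁) (B := B₁) (M ⧸ Im)
    (by rw [map_zero]; exact hz)
  exact (Submodule.Quotient.mk_eq_zero Im).1 h0

end EtRel

end ThickQuotLib
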