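import Groth.Agent.ThickQuotLib.Hull
import Groth.Agent.ThickQuotLib.Model
import Groth.Agent.ThickQuotLib.Step
import Groth.Agent.ThickQuotLib.NilEtale
import Groth.Agent.AlgSpLib.EtaleQuot
import Groth.Agent.HenselLib.EtaleLift

/-!
# A nil thickening of an effective affine étale equivalence relation is effective
-/

set_option autoImplicit false
set_option linter.all false

noncomputable section

universe u

open TensorProduct

namespace ThickQuotLib

variable {B C A Bb : Type u} [CommRing B] [CommRing C] [CommRing A] [CommRing Bb] [Algebra A Bb]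

/-- An étale equivalence relation which is effective modulo a nil ideal. -/
structure NilData (r : EtRel B C) (q : B →+* Bb) (qC : C →+* Bb ⊗[A] Bb) : Prop where
  q_surj : Function.Surjective q
  q_nil : ∀ x, q x = 0 → IsNilpotent x
  qC_surj : Function.Surjective qC
  qC_s : qC.comp r.s = (Algebra.TensorProduct.includeLeftRingHom : Bb →+* Bb ⊗[A] Bb).comp q
  qC_t : qC.comp r.t = ((Algebra.TensorProduct.includeRight (R := A) (A := Bb) (B := Bb)).toRingHom).comp q
  qC_ker : RingHom.ker qC = (RingHom.ker q).map r.s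

namespace NilData

variable {r : EtRel B C} {q : B →+* Bb} {qC : C →+* Bb ⊗[A] Bb} (d : NilData r q qC)
include d

theorem map_ker_eq : (RingHom.ker q).map r.s = (RingHom.ker q).map r.t := by
  have ht : (RingHom.ker q).map r.t ≤ (RingHom.ker q).map r.s := by
    rw [← d.qC_ker, Ideal.map_le_iff_le_comap]
    intro x hx
    show qC (r.t x) = 0
    rw [← qC.comp_apply r.t, d.qC_t, RingHom.comp_apply, RingHom.mem_ker.1 hx, map_zero]
  refine le_antisymm ?_ ht
  obtain ⟨σ, hs, hσt⟩ := r.symm (RingHom.id C)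
  rw [RingHom.id_comp] at hs hσt
  have h1 := Ideal.map_mono (f := σ) ht
  rw [Ideal.map_map, Ideal.map_map, hσt, hs] at h1
  exact h1

theorem qC_nil : ∀ x, qC x = 0 → IsNilpotent x := fun x hx => by
  have h1 : x ∈ (RingHom.ker q).map r.s := d.qC_ker ▸ RingHom.mem_ker.2 hx
  refine (Ideal.map_le_iff_le_comap.2 fun y hy => ?_ : (RingHom.ker q).map r.s ≤ nilradical C) h1
  exact (d.q_nil y hy).map r.s

theorem exists_bound [Algebra.Etale A Bb] :
    ∃ n, ∀ (F : Type u) [Field F] (m : ℕ) (x : Fin m → B →+* F), (∀ i j, i ≠ j → r.Apart (x i) (x j)) → m ≤ n := by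
  obtain ⟨n, hn⟩ := exists_points_bound A Bb
  refine ⟨n, fun F _ m x hx => ?_⟩
  rcases Nat.eq_zero_or_pos m with rfl | hm
  · exact Nat.zero_le _
  have hkill : ∀ i y, q y = 0 → x i y = 0 := fun i y hy => ((d.q_nil y hy).map (x i)).eq_zero
  let xb : Fin m → Bb →+* F := fun i => RingHom.liftOfSurjective q d.q_surj
    ⟨x i, fun y hy => RingHom.mem_ker.2 (hkill i y hy)⟩
  have hxb : ∀ i y, xb i (q y) = x i y := fun i y => RingHom.liftOfRightInverse_comp_apply q _ _ _ y
  refine hn F ((xb ⟨0, hm⟩).comp (algebraMap A Bb)) m xb (fun i j hij => ?_) fun i => ?_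
  · by_contra hne
    obtain ⟨f, hfs, hft, hfe⟩ := hx i j hne
    have hxx : x i = x j := RingHom.ext fun y => by rw [← hxb i, ← hxb j, hij]
    have h1 : f = (x i).comp r.ε := r.epi _ _ (by rw [hfs, RingHom.comp_assoc, r.εs, RingHom.comp_id])
      (by rw [hft, ← hxx, RingHom.comp_assoc, r.εt, RingHom.comp_id])
    rw [h1, RingHom.comp_apply, r.ε_e, map_one] at hfe
    exact one_ne_zero hfe
  · rcases eq_or_ne i ⟨0, hm⟩ with rfl | hi
    · rfl
    obtain ⟨f, hfs, hft, -⟩ := hx i ⟨0, hm⟩ hi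
    let fb : Bb ⊗[A] Bb →+* F := RingHom.liftOfSurjective qC d.qC_surj
      ⟨f, fun c hc => RingHom.mem_ker.2 ((d.qC_nil c hc).map f).eq_zero⟩
    have hfb : ∀ c, fb (qC c) = f c := fun c => RingHom.liftOfRightInverse_comp_apply qC _ _ _ c
    ext a
    obtain ⟨b, hb⟩ := d.q_surj (algebraMap A Bb a)
    show xb i (algebraMap A Bb a) = xb ⟨0, hm⟩ (algebraMap A Bb a)
    rw [← hb, hxb, hxb, ← hfs, ← hft, RingHom.comp_apply, RingHom.comp_apply, ← hfb, ← hfb,
      ← qC.comp_apply r.s, ← qC.comp_apply r.t, d.qC_s, d.qC_t, RingHom.comp_apply, RingHom.comp_apply, hb]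
    congr 1
    show algebraMap A Bb a ⊗ₜ[A] (1 : Bb) = (1 : Bb) ⊗ₜ[A] algebraMap A Bb a
    rw [Algebra.algebraMap_eq_smul_one, TensorProduct.smul_tmul]

/-- Every element of the quotient lifts to an invariant element. -/
theorem exists_lift [Algebra.Etale A Bb] [Module.FaithfullyFlat A Bb] (a : A) :
    ∃ b, r.s b = r.t b ∧ q b = algebraMap A Bb a := by
  classical
  obtain ⟨A₁, B₁, _, _, haA, hfg, _, _, ⟨e⟩⟩ :=
    exists_model (B := Bb) PrimeSpectrum.comap_surjective_of_faithfullyFlat a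
  haveI : Algebra.FiniteType ℤ A₁ := (Subalgebra.fg_iff_finiteType A₁).mp hfg
  obtain ⟨n, π, hπ⟩ := Algebra.FiniteType.iff_quotient_mvPolynomial''.1 ‹Algebra.FiniteType ℤ A₁›
  choose bx hbx using fun i : Fin n => d.q_surj (algebraMap A Bb (π (MvPolynomial.X i) : A₁).1)
  let G : MvPolynomial (Fin n) ℤ →+* B := MvPolynomial.eval₂Hom (Int.castRingHom B) bx
  have hG : q.comp G = ((algebraMap A Bb).comp A₁.val.toRingHom).comp π.toRingHom :=
    MvPolynomial.ringHom_ext (fun z => by simp [G]) fun i => by simpa [G] using hbx i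
  obtain ⟨gens, hgens⟩ : (RingHom.ker π.toRingHom).FG := IsNoetherian.noetherian _
  set I := RingHom.ker q with hIdef
  have hI := d.map_ker_eq
  have hδ : ∀ i, r.s (bx i) - r.t (bx i) ∈ I.map r.s := fun i => by
    rw [hIdef, ← d.qC_ker, RingHom.mem_ker, map_sub, ← qC.comp_apply r.s, ← qC.comp_apply r.t, d.qC_s, d.qC_t,
      RingHom.comp_apply, RingHom.comp_apply, hbx, sub_eq_zero]
    show algebraMap A Bb _ ⊗ₜ[A] (1 : Bb) = (1 : Bb) ⊗ₜ[A] algebraMap A Bb _
    rw [Algebra.algebraMap_eq_smul_one, TensorProduct.smul_tmul]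
  have hS : ∀ i, ∃ S : Finset B, (S : Set B) ⊆ I ∧ r.s (bx i) - r.t (bx i) ∈ (Ideal.span (S : Set B)).map r.s := by
    intro i
    obtain ⟨S, hS, hmem⟩ := Submodule.mem_span_finite_of_mem_span (show _ ∈ Ideal.span (r.s '' (I : Set B)) from hδ i)
    obtain ⟨S', hS', rfl⟩ := Finset.subset_set_image_iff.1 hS
    refine ⟨S', hS', ?_⟩
    rw [Ideal.map_span]
    rwa [Finset.coe_image] at hmem
  choose S hSI hSmem using hS
  let N : Ideal B := Ideal.span ↑(gens.image G ∪ Finset.univ.biUnion S)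
  have hNI : N ≤ I := Ideal.span_le.2 fun x hx => by
    rcases Finset.mem_union.1 hx with h | h
    · obtain ⟨g, hg, rfl⟩ := Finset.mem_image.1 h
      show q (G g) = 0
      rw [← q.comp_apply G, hG, RingHom.comp_apply, RingHom.mem_ker.1 (hgens.le (Ideal.subset_span hg)), map_zero]
    · obtain ⟨i, -, hi⟩ := Finset.mem_biUnion.1 h
      exact hSI i hi
  obtain ⟨nb, hnb⟩ := d.exists_bound
  obtain ⟨H, hHfg, hNH, hHI, hH⟩ := r.exists_invariant_hull hnb hI hNI ⟨_, rfl⟩
  -- the map from the model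
  let qh : B ⧸ H →+* Bb := Ideal.Quotient.lift H q fun x hx => hHI hx
  have hker : RingHom.ker π.toRingHom ≤ RingHom.ker ((Ideal.Quotient.mk H).comp G) := by
    rw [← hgens, Ideal.span_le]
    intro g hg
    exact Ideal.Quotient.eq_zero_iff_mem.2 (hNH (Ideal.subset_span (Finset.mem_coe.2 (Finset.mem_union_left _ (Finset.mem_image_of_mem G hg)))))
  let πr : MvPolynomial (Fin n) ℤ →+* A₁ := π.toRingHom
  have hπr : Function.Surjective πr := hπ
  let α : A₁ →+* B ⧸ H := RingHom.liftOfSurjective πr hπr ⟨(Ideal.Quotient.mk H).comp G, hker⟩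
  have hαπ : α.comp π.toRingHom = (Ideal.Quotient.mk H).comp G :=
    RingHom.liftOfSurjective_comp πr hπr _
  have hqα : ∀ x, qh (α x) = algebraMap A Bb x.1 := fun x => by
    obtain ⟨p, rfl⟩ := hπ x
    rw [show α (π p) = _ from RingHom.congr_fun hαπ p]
    exact RingHom.congr_fun hG p
  let sb : B ⧸ H →+* C ⧸ H.map r.s := Ideal.quotientMap _ r.s Ideal.le_comap_map
  let tb : B ⧸ H →+* C ⧸ H.map r.s := Ideal.quotientMap _ r.t (hH ▸ Ideal.le_comap_map)
  have hst : sb.comp α = tb.comp α := by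
    refine RingHom.ext fun x => ?_
    obtain ⟨p, rfl⟩ := hπ x
    refine RingHom.congr_fun (MvPolynomial.ringHom_ext (f := (sb.comp α).comp π.toRingHom)
      (g := (tb.comp α).comp π.toRingHom) (fun z => by simp) fun i => ?_) p
    rw [RingHom.comp_assoc, hαπ, RingHom.comp_assoc, hαπ]
    show Ideal.Quotient.mk _ (r.s (G (MvPolynomial.X i))) = Ideal.Quotient.mk _ (r.t (G (MvPolynomial.X i)))
    rw [Ideal.Quotient.eq, show G (MvPolynomial.X i) = bx i from MvPolynomial.eval₂Hom_X' _ _ _]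
    exact Ideal.map_mono (Ideal.span_le.2 fun x hx => hNH (Ideal.subset_span
      (Finset.mem_union_right _ (Finset.mem_biUnion.2 ⟨i, Finset.mem_univ _, hx⟩)))) (hSmem i)
  have hα : ∀ x b, Ideal.Quotient.mk H b = α x → r.s b - r.t b ∈ H.map r.s := fun x b hb => by
    rw [← Ideal.Quotient.eq]
    show sb (Ideal.Quotient.mk H b) = tb (Ideal.Quotient.mk H b)
    rw [hb]; exact RingHom.congr_fun hst x
  -- lift the covering
  letI : Algebra A₁ (B ⧸ H) := α.toAlgebra
  let qha : B ⧸ H →ₐ[A₁] Bb := { qh with commutes' := hqα }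
  have hqh : Function.Surjective qha := Ideal.Quotient.lift_surjective_of_surjective _ _ d.q_surj
  have hqhnil : ∀ x, qha x = 0 → IsNilpotent x := fun x hx => by
    obtain ⟨y, rfl⟩ := Ideal.Quotient.mk_surjective x
    exact (d.q_nil y hx).map _
  let κ : B₁ →ₐ[A₁] Bb := (e.symm.toAlgHom.restrictScalars A₁).comp Algebra.TensorProduct.includeRight
  obtain ⟨φ, hφ⟩ := lift_of_nil qha hqh hqhnil κ
  -- the comparison
  letI := sb.toAlgebra
  haveI : Algebra.Etale (B ⧸ H) (C ⧸ H.map r.s) := AlgSpLib.etale_quotientMap r.s r.etale H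
  letI : Algebra A₁ (C ⧸ H.map r.s) := (sb.comp α).toAlgebra
  haveI : IsScalarTower A₁ (B ⧸ H) (C ⧸ H.map r.s) := IsScalarTower.of_algebraMap_eq fun _ => rfl
  let tφ : B₁ →ₐ[A₁] C ⧸ H.map r.s :=
    { tb.comp φ.toRingHom with
      commutes' := fun x => by
        show tb (φ (algebraMap A₁ B₁ x)) = sb (α x)
        rw [φ.commutes]; exact (RingHom.congr_fun hst x).symm }
  let ψ : (B ⧸ H) ⊗[A₁] B₁ →ₐ[B ⧸ H] C ⧸ H.map r.s :=
    Algebra.TensorProduct.lift (Algebra.ofId _ _) tφ fun _ _ => .all _ _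
  have hψt : ∀ x β, ψ (x ⊗ₜ β) = sb x * tb (φ β) := fun x β => Algebra.TensorProduct.lift_tmul _ _ _ _ _
  letI : Algebra (B ⧸ H) (Bb ⊗[A] Bb) :=
    ((Algebra.TensorProduct.includeLeftRingHom : Bb →+* Bb ⊗[A] Bb).comp qh).toAlgebra
  let qCh : C ⧸ H.map r.s →ₐ[B ⧸ H] Bb ⊗[A] Bb :=
    { Ideal.Quotient.lift (H.map r.s) qC fun x hx => by
        rw [← RingHom.mem_ker, d.qC_ker]; exact Ideal.map_mono hHI hx with
      commutes' := fun x => by
        obtain ⟨y, rfl⟩ := Ideal.Quotient.mk_surjective x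
        exact RingHom.congr_fun d.qC_s y }
  have hqCh : ∀ c, qCh (Ideal.Quotient.mk _ c) = qC c := fun c => rfl
  have hqCnil : ∀ x, qCh x = 0 → IsNilpotent x := fun x hx => by
    obtain ⟨y, rfl⟩ := Ideal.Quotient.mk_surjective x
    exact (d.qC_nil y hx).map _
  -- reduction of ψ
  let eA : Bb ⊗[A] Bb ≃ₐ[A] Bb ⊗[A₁] B₁ :=
    (Algebra.TensorProduct.congr AlgEquiv.refl e).trans
      ((Algebra.TensorProduct.cancelBaseChange A₁ A Bb Bb B₁).restrictScalars A)
  let qB : (B ⧸ H) ⊗[A₁] B₁ →ₐ[A₁] Bb ⊗[A₁] B₁ := Algebra.TensorProduct.map qha (AlgHom.id A₁ B₁)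
  have hmk : ∀ b b' : B, sb (Ideal.Quotient.mk H b) * tb (Ideal.Quotient.mk H b') =
      Ideal.Quotient.mk (H.map r.s) (r.s b * r.t b') :=
    fun b b' => (map_mul (Ideal.Quotient.mk (H.map r.s)) _ _).symm
  have hred : ∀ z, eA (qCh (ψ z)) = qB z := fun z => by
    induction z with
    | zero => simp
    | add z z' hz hz' => rw [map_add, map_add, map_add, map_add, hz, hz']
    | tmul x β =>
      obtain ⟨b, rfl⟩ := Ideal.Quotient.mk_surjective x
      obtain ⟨b', hb'⟩ := Ideal.Quotient.mk_surjective (φ β)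
      rw [hψt, ← hb', hmk, hqCh, map_mul,
        ← qC.comp_apply r.s, ← qC.comp_apply r.t, d.qC_s, d.qC_t]
      have hk : q b' = e.symm ((1 : A) ⊗ₜ[A₁] β) := by
        have h2 : qha (φ β) = κ β := AlgHom.congr_fun hφ β
        rw [← hb'] at h2
        exact h2
      show eA ((q b ⊗ₜ[A] (1 : Bb)) * ((1 : Bb) ⊗ₜ[A] q b')) = qha (Ideal.Quotient.mk H b) ⊗ₜ[A₁] β
      rw [Algebra.TensorProduct.tmul_mul_tmul, mul_one, one_mul, hk]
      show Algebra.TensorProduct.cancelBaseChange A₁ A Bb Bb B₁ (q b ⊗ₜ e (e.symm ((1 : A) ⊗ₜ[A₁] β))) = _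
      rw [e.apply_symm_apply, Algebra.TensorProduct.cancelBaseChange_tmul, one_smul]
      rfl
  have hqBsurj : Function.Surjective qB := TensorProduct.map_surjective hqh Function.surjective_id
  have hψbij : Function.Bijective ψ := bijective_of_nil ψ qCh hqCnil
    (fun y => by obtain ⟨z, hz⟩ := hqBsurj (eA y); exact ⟨z, eA.injective ((hred z).trans hz)⟩) fun z hz => by
      have h1 : qB z = 0 := by rw [← hred, hz, map_zero]
      have h2 : z ∈ RingHom.ker (Algebra.TensorProduct.map qha (AlgHom.id A₁ B₁)) := RingHom.mem_ker.2 h1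
      rw [Algebra.TensorProduct.rTensor_ker qha hqh] at h2
      have h3 : (RingHom.ker qha).map (Algebra.TensorProduct.includeLeft : B ⧸ H →ₐ[A₁] (B ⧸ H) ⊗[A₁] B₁) ≤
          nilradical ((B ⧸ H) ⊗[A₁] B₁) := Ideal.map_le_iff_le_comap.2 fun y hy =>
        (hqhnil y hy).map (Algebra.TensorProduct.includeLeft : B ⧸ H →ₐ[A₁] (B ⧸ H) ⊗[A₁] B₁)
      exact h3 h2
  let eψ := AlgEquiv.ofBijective ψ hψbij
  let sA : B ⧸ H →ₐ[A₁] C ⧸ H.map r.s := IsScalarTower.toAlgHom _ _ _
  let η : C →+* (C ⧸ H.map r.s) ⊗[A₁] B₁ :=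
    ((Algebra.TensorProduct.map sA (AlgHom.id A₁ B₁)).toRingHom.comp eψ.symm.toAlgHom.toRingHom).comp
      (Ideal.Quotient.mk (H.map r.s))
  have hη : ∀ c z, ψ z = Ideal.Quotient.mk _ c → η c = Algebra.TensorProduct.map sA (AlgHom.id A₁ B₁) z := fun c z hz => by
    show Algebra.TensorProduct.map sA (AlgHom.id A₁ B₁) (eψ.symm (Ideal.Quotient.mk _ c)) = _
    rw [← hz]; congr 1; exact eψ.symm_apply_apply z
  -- the lift
  obtain ⟨b₀, hb₀⟩ := Ideal.Quotient.mk_surjective (α ⟨a, haA⟩)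
  have hpow : ∀ k, ∃ b, q b = algebraMap A Bb a ∧ r.s b - r.t b ∈ (H ^ (k + 1)).map r.s := fun k => by
    induction k with
    | zero =>
      refine ⟨b₀, ?_, by rw [pow_one]; exact hα _ _ hb₀⟩
      have h2 := hqα ⟨a, haA⟩
      rwa [← hb₀] at h2
    | succ k ih =>
      obtain ⟨b, hqb, hb⟩ := ih
      have hJ : (H ^ (k + 1)).map r.s = (H ^ (k + 1)).map r.t := by rw [Ideal.map_pow, Ideal.map_pow, hH]
      obtain ⟨j, hj, hmem⟩ := r.h1_step hH hJ α hα φ.toRingHom
        (fun c S hS => by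
          obtain ⟨z, rfl⟩ := hψbij.2 c
          induction z with
          | zero => rw [map_zero]; exact S.zero_mem
          | add z z' hz hz' => rw [map_add]; exact S.add_mem hz hz'
          | tmul x β =>
            obtain ⟨b₁, rfl⟩ := Ideal.Quotient.mk_surjective x
            obtain ⟨b', hb'⟩ := Ideal.Quotient.mk_surjective (φ β)
            rcases hS b₁ b' with h | h
            · rw [hψt, ← hb', hmk]
              exact h
            · exact absurd ⟨β, hb'.symm⟩ h)
        (fun x b hb => by show sb (α x) = _; rw [← hb]; rfl) η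
        (fun b => by
          rw [hη _ (Ideal.Quotient.mk H b ⊗ₜ 1) (by rw [hψt, map_one, map_one, mul_one]; rfl)]
          rfl)
        (fun b β hb => by
          rw [hη _ ((1 : B ⧸ H) ⊗ₜ β) (by
            rw [hψt, map_one, one_mul, show φ β = Ideal.Quotient.mk H b from hb.symm]; rfl)]
          rw [Algebra.TensorProduct.map_tmul, map_one, AlgHom.id_apply])
        hb
      refine ⟨b - j, ?_, ?_⟩
      · rw [map_sub, hqb, RingHom.mem_ker.1 (hHI (Ideal.pow_le_self (Nat.succ_ne_zero k) hj)), sub_zero]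
      · rw [show r.s (b - j) - r.t (b - j) = (r.s b - r.t b) - (r.s j - r.t j) by rw [map_sub, map_sub]; ring,
          pow_succ']
        exact hmem
  have hnil : IsNilpotent H := (Ideal.FG.isNilpotent_iff_le_nilradical hHfg).2 fun x hx => d.q_nil x (hHI hx)
  obtain ⟨N₀, hN₀⟩ := hnil
  obtain ⟨b, hqb, hb⟩ := hpow N₀
  refine ⟨b, ?_, hqb⟩
  rw [pow_succ, hN₀, zero_mul, Ideal.zero_eq_bot, Ideal.map_bot, Submodule.mem_bot, sub_eq_zero] at hb
  exact hb

/-- The nil thickening of an effective relation is effective. -/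
theorem exists_effective [Algebra.Etale A Bb] [Module.FaithfullyFlat A Bb] :
    ∃ (A' : Type u) (_ : CommRing A') (_ : Algebra A' B), Algebra.Etale A' B ∧ Module.FaithfullyFlat A' B ∧
      r.s.comp (algebraMap A' B) = r.t.comp (algebraMap A' B) ∧
      ∃ e : B ⊗[A'] B →+* C, Function.Bijective e ∧ ∀ x y, e (x ⊗ₜ y) = r.s x * r.t y := by
  classical
  let A' : Subring B := r.s.eqLocus r.t
  have hmemA : ∀ x : A', q x.1 ∈ (algebraMap A Bb).range := fun x => by
    have h1 := congrArg qC (show r.s x.1 = r.t x.1 from x.2)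
    rw [← qC.comp_apply r.s, ← qC.comp_apply r.t, d.qC_s, d.qC_t] at h1
    have h1' : (q x.1) ⊗ₜ[A] (1 : Bb) = (1 : Bb) ⊗ₜ[A] (q x.1) := h1
    let W := LinearMap.range (Algebra.linearMap A Bb)
    have h2 := congrArg (W.mkQ.lTensor Bb) h1'
    rw [LinearMap.lTensor_tmul, LinearMap.lTensor_tmul, (Submodule.Quotient.mk_eq_zero W).2 ⟨1, (algebraMap A Bb).map_one⟩ |>
      fun h : W.mkQ 1 = 0 => h, TensorProduct.tmul_zero] at h2
    have h3 : W.mkQ (q x.1) = 0 := Module.FaithfullyFlat.tensorProduct_mk_injective (A := A) (B := Bb) (Bb ⧸ W)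
      (by rw [map_zero]; exact h2.symm)
    exact (Submodule.Quotient.mk_eq_zero W).1 h3
  choose ρ0 hρ0 using hmemA
  have hinjA : Function.Injective (algebraMap A Bb) := FaithfulSMul.algebraMap_injective A Bb
  let ρ : A' →+* A :=
    { toFun := ρ0
      map_one' := hinjA (by rw [hρ0, map_one]; exact map_one q)
      map_mul' := fun x y => hinjA (by rw [hρ0, map_mul, hρ0, hρ0]; exact map_mul q _ _)
      map_zero' := hinjA (by rw [hρ0, map_zero]; exact map_zero q)
      map_add' := fun x y => hinjA (by rw [hρ0, map_add, hρ0, hρ0]; exact map_add q _ _) }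
  have hρ : ∀ x, algebraMap A Bb (ρ x) = q x.1 := hρ0
  have hρsurj : Function.Surjective ρ := fun a => by
    obtain ⟨b, hb, hqb⟩ := d.exists_lift a
    exact ⟨⟨b, hb⟩, hinjA (by rw [hρ]; exact hqb)⟩
  have hρnil : ∀ x, ρ x = 0 → IsNilpotent x := fun x hx => by
    obtain ⟨n, hn⟩ := d.q_nil x.1 (by rw [← hρ, hx, map_zero])
    exact ⟨n, Subtype.ext (by rw [SubmonoidClass.coe_pow, hn]; rfl)⟩
  -- the lift of the covering
  let I := RingHom.ker ρ
  let eI : A' ⧸ I ≃+* A := RingHom.quotientKerEquivOfSurjective hρsurj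
  letI : Algebra A' Bb := (q.comp A'.subtype).toAlgebra
  letI : Algebra (A' ⧸ I) Bb := ((algebraMap A Bb).comp eI.toRingHom).toAlgebra
  haveI : IsScalarTower A' (A' ⧸ I) Bb := ⟨fun a x z => by
    obtain ⟨x, rfl⟩ := Ideal.Quotient.mk_surjective x
    show (algebraMap A Bb) (eI (Ideal.Quotient.mk I (a * x))) * z = q a.1 * ((algebraMap A Bb) (eI (Ideal.Quotient.mk I x)) * z)
    show (algebraMap A Bb) (ρ (a * x)) * z = q a.1 * ((algebraMap A Bb) (ρ x) * z)
    rw [map_mul, map_mul, hρ, mul_assoc]⟩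
  haveI : Algebra.Etale (A' ⧸ I) Bb := by
    show RingHom.Etale ((algebraMap A Bb).comp eI.toRingHom)
    exact RingHom.Etale.respectsIso.2 _ eI (RingHom.etale_algebraMap.2 inferInstance)
  obtain ⟨B', _, _, _, φq, hφq, hφker⟩ := HenselLib.exists_etale_lift I Bb
  have hφnil : ∀ x, φq x = 0 → IsNilpotent x := fun x hx => by
    have h1 : x ∈ I.map (algebraMap A' B') := hφker ▸ RingHom.mem_ker.2 hx
    refine (Ideal.map_le_iff_le_comap.2 fun y hy => ?_ : I.map (algebraMap A' B') ≤ nilradical B') h1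
    exact (hρnil y hy).map (algebraMap A' B')
  haveI : Module.FaithfullyFlat A' B' := Module.FaithfullyFlat.of_comap_surjective fun P => by
    have hIP : I ≤ P.asIdeal := fun x hx => by
      obtain ⟨n, hn⟩ := hρnil x hx
      exact P.isPrime.mem_of_pow_mem n (hn ▸ P.asIdeal.zero_mem)
    obtain ⟨P₀, rfl⟩ : ∃ P₀, PrimeSpectrum.comap ρ P₀ = P := by
      have := range_comap_of_surjective A ρ hρsurj
      exact this.ge hIP
    obtain ⟨Q, hQ⟩ := PrimeSpectrum.comap_surjective_of_faithfullyFlat (B := Bb) P₀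
    refine ⟨PrimeSpectrum.comap φq.toRingHom Q, ?_⟩
    rw [← PrimeSpectrum.comap_comp_apply, ← hQ, ← PrimeSpectrum.comap_comp_apply]
    congr 1
    refine RingHom.ext fun x => ?_
    exact (φq.commutes x).trans (hρ x).symm
  letI : Algebra A' B := A'.subtype.toAlgebra
  let qa : B →ₐ[A'] Bb := { q with commutes' := fun x => rfl }
  obtain ⟨φ, hφ⟩ := lift_of_nil qa d.q_surj d.q_nil φq
  -- the comparison
  letI := r.s.toAlgebra
  haveI : Algebra.Etale B C := r.etale
  letI : Algebra A' C := (r.s.comp A'.subtype).toAlgebra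
  haveI : IsScalarTower A' B C := IsScalarTower.of_algebraMap_eq fun _ => rfl
  let tA : B →ₐ[A'] C := { r.t with commutes' := fun x => (x.2 : r.s x.1 = r.t x.1).symm }
  let sA : B →ₐ[A'] C := IsScalarTower.toAlgHom _ _ _
  let ψ : B ⊗[A'] B' →ₐ[B] C := Algebra.TensorProduct.lift (Algebra.ofId _ _) (tA.comp φ) fun _ _ => .all _ _
  have hψt : ∀ x β, ψ (x ⊗ₜ β) = r.s x * r.t (φ β) := fun x β => Algebra.TensorProduct.lift_tmul _ _ _ _ _
  letI : Algebra B (Bb ⊗[A] Bb) :=
    ((Algebra.TensorProduct.includeLeftRingHom : Bb →+* Bb ⊗[A] Bb).comp q).toAlgebra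
  let qCa : C →ₐ[B] Bb ⊗[A] Bb := { qC with commutes' := fun x => RingHom.congr_fun d.qC_s x }
  let red : B ⊗[A'] B' →ₐ[A'] Bb ⊗[A'] Bb := Algebra.TensorProduct.map qa φq
  let mkA : Bb ⊗[A'] Bb →+ Bb ⊗[A] Bb := TensorProduct.liftAddHom
    { toFun := fun x => (TensorProduct.mk A Bb Bb x).toAddMonoidHom
      map_zero' := AddMonoidHom.ext fun y => TensorProduct.zero_tmul _ y
      map_add' := fun x x' => AddMonoidHom.ext fun y => TensorProduct.add_tmul x x' y }
    (fun a x y => by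
      show (a • x) ⊗ₜ[A] y = x ⊗ₜ[A] (a • y)
      have h1 : ∀ z : Bb, a • z = ρ a • z := fun z => by
        rw [Algebra.smul_def, Algebra.smul_def]; exact congrArg (· * z) (hρ a).symm
      rw [h1, h1, TensorProduct.smul_tmul])
  have hmkA_inj : Function.Injective mkA := by
    let back : Bb ⊗[A] Bb →+ Bb ⊗[A'] Bb := TensorProduct.liftAddHom
      { toFun := fun x => (TensorProduct.mk A' Bb Bb x).toAddMonoidHom
        map_zero' := AddMonoidHom.ext fun y => TensorProduct.zero_tmul _ y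
        map_add' := fun x x' => AddMonoidHom.ext fun y => TensorProduct.add_tmul x x' y }
      (fun a x y => by
        obtain ⟨a', rfl⟩ := hρsurj a
        show (ρ a' • x) ⊗ₜ[A'] y = x ⊗ₜ[A'] (ρ a' • y)
        have h1 : ∀ z : Bb, ρ a' • z = a' • z := fun z => by
          rw [Algebra.smul_def, Algebra.smul_def]; exact congrArg (· * z) (hρ a')
        rw [h1, h1, TensorProduct.smul_tmul])
    refine Function.LeftInverse.injective (g := back) fun z => ?_
    induction z with
    | zero => rw [map_zero, map_zero]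
    | tmul x y => rfl
    | add z z' hz hz' => rw [map_add, map_add, hz, hz']
  have hred : ∀ z, qCa (ψ z) = mkA (red z) := fun z => by
    induction z with
    | zero => simp
    | add z z' hz hz' => rw [map_add, map_add, map_add, map_add, hz, hz']
    | tmul x β =>
      rw [hψt]
      show qC (r.s x * r.t (φ β)) = q x ⊗ₜ[A] φq β
      rw [map_mul, ← qC.comp_apply r.s, ← qC.comp_apply r.t, d.qC_s, d.qC_t, ← hφ]
      show (q x ⊗ₜ[A] (1 : Bb)) * ((1 : Bb) ⊗ₜ[A] q (φ β)) = _
      rw [Algebra.TensorProduct.tmul_mul_tmul, mul_one, one_mul]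
      rfl
  have hψbij : Function.Bijective ψ := bijective_of_nil ψ qCa d.qC_nil
    (fun y => by
      have hs : Function.Surjective red := TensorProduct.map_surjective d.q_surj hφq
      induction y using TensorProduct.induction_on with
      | zero => exact ⟨0, map_zero _⟩
      | tmul x y => obtain ⟨z, hz⟩ := hs (x ⊗ₜ y); exact ⟨z, (hred z).trans (by rw [hz]; rfl)⟩
      | add y y' hy hy' =>
        obtain ⟨z, hz⟩ := hy; obtain ⟨z', hz'⟩ := hy'
        exact ⟨z + z', by rw [map_add, hz, hz']⟩)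
    fun z hz => by
      have h1 : red z = 0 := hmkA_inj (by rw [← hred, map_zero]; exact hz)
      have h2 := (Algebra.TensorProduct.map_ker qa φq d.q_surj hφq).le (RingHom.mem_ker.2 h1)
      refine (sup_le ?_ ?_ : _ ≤ nilradical (B ⊗[A'] B')) h2
      · refine Ideal.map_le_iff_le_comap.2 fun y hy => ?_
        exact (d.q_nil y hy).map (Algebra.TensorProduct.includeLeft : B →ₐ[A'] B ⊗[A'] B')
      · refine Ideal.map_le_iff_le_comap.2 fun y hy => ?_
        exact (hφnil y hy).map (Algebra.TensorProduct.includeRight : B' →ₐ[A'] B ⊗[A'] B')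
  let eψ := AlgEquiv.ofBijective ψ hψbij
  -- φ is bijective
  let i : A' →ₗ[A'] B := Algebra.linearMap A' B
  let D : B →ₗ[A'] C := sA.toLinearMap - tA.toLinearMap
  have hexact : Function.Exact i D := fun b => ⟨fun h => ⟨⟨b, sub_eq_zero.1 h⟩, rfl⟩, by
    rintro ⟨x, rfl⟩; exact sub_eq_zero.2 x.2⟩
  have hi : ∀ x : A' ⊗[A'] B', LinearMap.rTensor B' i x = (1 : B) ⊗ₜ TensorProduct.lid A' B' x := fun x => by
    induction x with
    | zero => simp
    | add x y hx hy => rw [map_add, map_add, hx, hy, TensorProduct.tmul_add]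
    | tmul a β =>
      rw [LinearMap.rTensor_tmul, TensorProduct.lid_tmul, ← TensorProduct.smul_tmul]
      exact congrArg (· ⊗ₜ β) (Algebra.algebraMap_eq_smul_one a)
  have hφinj : Function.Injective φ := fun β β' h => by
    have h1 : ψ ((1 : B) ⊗ₜ β) = ψ ((1 : B) ⊗ₜ β') := by rw [hψt, hψt, h]
    have h2 := hψbij.1 h1
    have h3 : LinearMap.rTensor B' i ((1 : A') ⊗ₜ β) = LinearMap.rTensor B' i ((1 : A') ⊗ₜ β') := by
      rw [hi, hi, TensorProduct.lid_tmul, TensorProduct.lid_tmul, one_smul, one_smul]; exact h2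
    have h4 := congrArg (TensorProduct.lid A' B') (Module.Flat.rTensor_preserves_injective_linearMap i Subtype.val_injective h3)
    rwa [TensorProduct.lid_tmul, TensorProduct.lid_tmul, one_smul, one_smul] at h4
  have hφsurj : Function.Surjective φ := fun b => by
    let w := eψ.symm (r.t b)
    have hw : ψ w = r.t b := eψ.apply_symm_apply _
    let f : C →+* C ⊗[A'] B' := (Algebra.TensorProduct.map sA (AlgHom.id A' B')).toRingHom.comp eψ.symm.toAlgHom.toRingHom
    let g : C →+* C ⊗[A'] B' := (Algebra.TensorProduct.map tA (AlgHom.id A' B')).toRingHom.comp eψ.symm.toAlgHom.toRingHom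
    let l : C →+* C ⊗[A'] B' := Algebra.TensorProduct.includeLeftRingHom
    have hf : ∀ z, f (ψ z) = Algebra.TensorProduct.map sA (AlgHom.id A' B') z := fun z =>
      congrArg (Algebra.TensorProduct.map sA (AlgHom.id A' B')) (eψ.symm_apply_apply z)
    have hg : ∀ z, g (ψ z) = Algebra.TensorProduct.map tA (AlgHom.id A' B') z := fun z =>
      congrArg (Algebra.TensorProduct.map tA (AlgHom.id A' B')) (eψ.symm_apply_apply z)
    have hsψ : ∀ x, r.s x = ψ (x ⊗ₜ 1) := fun x => by rw [hψt, map_one, map_one, mul_one]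
    have hfs : f.comp r.s = l.comp r.s := RingHom.ext fun x =>
      (congrArg f (hsψ x)).trans ((hf _).trans rfl)
    have hgs : g.comp r.s = l.comp r.t := RingHom.ext fun x =>
      (congrArg g (hsψ x)).trans ((hg _).trans rfl)
    have hfφ : ∀ β, f (r.t (φ β)) = (1 : C) ⊗ₜ β := fun β => by
      rw [show r.t (φ β) = ψ (1 ⊗ₜ β) by rw [hψt, map_one, one_mul], hf, Algebra.TensorProduct.map_tmul, map_one]; rfl
    have hgφ : ∀ β, g (r.t (φ β)) = (1 : C) ⊗ₜ β := fun β => by
      rw [show r.t (φ β) = ψ (1 ⊗ₜ β) by rw [hψt, map_one, one_mul], hg, Algebra.TensorProduct.map_tmul, map_one]; rfl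
    obtain ⟨fi, hfis, hfit⟩ := r.symm f
    obtain ⟨k, hks, hkt⟩ := r.trans l g hgs.symm
    obtain ⟨h, hhs, hht⟩ := r.trans fi k (by rw [hfit, hfs, hks])
    rw [hfis] at hhs
    rw [hkt] at hht
    have hh : h = (f.comp r.t).comp r.ε := by
      have key : ∀ z, h (ψ z) = ((f.comp r.t).comp r.ε) (ψ z) := fun z => by
        induction z with
        | zero => simp
        | add z z' hz hz' => rw [map_add, map_add, map_add, hz, hz']
        | tmul x β =>
          rw [hψt, map_mul, map_mul, ← h.comp_apply r.s, hhs, ← h.comp_apply r.t, hht]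
          show f (r.t x) * g (r.t (φ β)) = f (r.t (r.ε (r.s x))) * f (r.t (r.ε (r.t (φ β))))
          rw [← r.ε.comp_apply r.s, ← r.ε.comp_apply r.t, r.εs, r.εt, RingHom.id_apply, RingHom.id_apply, hgφ, hfφ]
      exact RingHom.ext fun c => by obtain ⟨z, rfl⟩ := hψbij.2 c; exact key z
    have hfg : f (r.t b) = g (r.t b) := by
      have h1 := RingHom.congr_fun hht b
      rw [hh, RingHom.comp_apply, RingHom.comp_apply, ← r.ε.comp_apply r.t, r.εt, RingHom.id_apply] at h1
      exact h1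
    rw [← hw, hf, hg] at hfg
    have h0 : LinearMap.rTensor B' D w = 0 := by
      have key : ∀ z, LinearMap.rTensor B' D z = Algebra.TensorProduct.map sA (AlgHom.id A' B') z -
          Algebra.TensorProduct.map tA (AlgHom.id A' B') z := fun z => by
        induction z with
        | zero => simp
        | add z z' hz hz' => rw [map_add, map_add, map_add, hz, hz']; abel
        | tmul x β => exact TensorProduct.sub_tmul _ _ _
      rw [key, hfg, sub_self]
    obtain ⟨w', hw'⟩ := (Module.Flat.rTensor_exact B' hexact w).1 h0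
    refine ⟨TensorProduct.lid A' B' w', ?_⟩
    rw [hi] at hw'
    have h1 : r.t (φ (TensorProduct.lid A' B' w')) = r.t b := by
      rw [← hw, ← hw', hψt, map_one, one_mul]
    have h2 := congrArg r.ε h1
    rwa [← r.ε.comp_apply r.t, ← r.ε.comp_apply r.t, r.εt] at h2
  let eφ := AlgEquiv.ofBijective φ ⟨hφinj, hφsurj⟩
  refine ⟨A', inferInstance, inferInstance, Algebra.Etale.of_equiv eφ,
    Module.FaithfullyFlat.of_linearEquiv _ _ eφ.symm.toLinearEquiv, RingHom.ext fun x => x.2,
    ψ.toRingHom.comp (Algebra.TensorProduct.map (AlgHom.id A' B) eφ.symm.toAlgHom).toRingHom, ?_, fun x y => ?_⟩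
  · refine hψbij.comp ?_
    exact (Algebra.TensorProduct.congr (AlgEquiv.refl : B ≃ₐ[A'] B) eφ.symm).bijective
  · show ψ (x ⊗ₜ eφ.symm y) = _
    rw [hψt]
    exact congrArg (fun v => r.s x * r.t v) (eφ.apply_symm_apply y)

end NilData

end ThickQuotLib
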