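import Groth.Agent.ThickQuotLib.Rel

/-!
# Finitely generated invariant ideals
-/

set_option autoImplicit false
set_option linter.all false

noncomputable section

universe u

open TensorProduct

namespace ThickQuotLib

/-- Descent of ideals along a flat ring map, inside an extended ideal. -/
theorem le_map_comap_inf {B D : Type u} [CommRing B] [CommRing D] [Algebra B D] [Module.Flat B D]
    (I : Ideal B) (H : Ideal D) (hI : H ≤ I.map (algebraMap B D))
    (hH : H.map (Algebra.TensorProduct.includeLeftRingHom : D →+* D ⊗[B] D) ≤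
      H.map (Algebra.TensorProduct.includeRight (R := B) (A := D) (B := D)).toRingHom) :
    H ≤ (H.comap (algebraMap B D) ⊓ I).map (algebraMap B D) := by
  set K : Ideal B := H.comap (algebraMap B D) ⊓ I
  intro d hd
  let f₁ : (B ⧸ K) →ₐ[B] D ⧸ H := Ideal.Quotient.liftₐ K (IsScalarTower.toAlgHom B B (D ⧸ H))
    fun b hb => Ideal.Quotient.eq_zero_iff_mem.2 (show algebraMap B D b ∈ H from hb.1)
  let f₂ : (B ⧸ K) →ₐ[B] B ⧸ I := Ideal.Quotient.liftₐ K (IsScalarTower.toAlgHom B B (B ⧸ I))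
    fun b hb => Ideal.Quotient.eq_zero_iff_mem.2 (show b ∈ I from hb.2)
  have hinj : Function.Injective (f₁.toLinearMap.prod f₂.toLinearMap) := by
    rw [← LinearMap.ker_eq_bot, Submodule.eq_bot_iff]
    intro x hx
    obtain ⟨b, rfl⟩ := Ideal.Quotient.mk_surjective x
    rw [LinearMap.mem_ker, LinearMap.prod_apply, Prod.ext_iff] at hx
    have hx1 : Ideal.Quotient.mk H (algebraMap B D b) = 0 := hx.1
    have hx2 : Ideal.Quotient.mk I b = 0 := hx.2
    exact Ideal.Quotient.eq_zero_iff_mem.2 ⟨(Ideal.Quotient.eq_zero_iff_mem.1 hx1 : algebraMap B D b ∈ H),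
      Ideal.Quotient.eq_zero_iff_mem.1 hx2⟩
  have h1 : f₁.toLinearMap.lTensor D (d ⊗ₜ[B] (1 : B ⧸ K)) = 0 := by
    rw [LinearMap.lTensor_tmul, AlgHom.toLinearMap_apply, map_one]
    let F : D ⊗[B] D →ₐ[B] D ⊗[B] (D ⧸ H) := Algebra.TensorProduct.map (AlgHom.id B D) (Ideal.Quotient.mkₐ B H)
    have hker : H.map (Algebra.TensorProduct.includeRight (R := B) (A := D) (B := D)).toRingHom ≤
        RingHom.ker F.toRingHom := by
      rw [Ideal.map_le_iff_le_comap]
      intro h hh
      show F ((1 : D) ⊗ₜ[B] h) = 0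
      rw [Algebra.TensorProduct.map_tmul, Ideal.Quotient.mkₐ_eq_mk, Ideal.Quotient.eq_zero_iff_mem.2 hh,
        TensorProduct.tmul_zero]
    have h0 : F (d ⊗ₜ[B] (1 : D)) = 0 := RingHom.mem_ker.1 (hker (hH (Ideal.mem_map_of_mem _ hd)))
    rw [Algebra.TensorProduct.map_tmul, map_one] at h0
    exact h0
  have h2 : f₂.toLinearMap.lTensor D (d ⊗ₜ[B] (1 : B ⧸ K)) = 0 := by
    rw [LinearMap.lTensor_tmul, AlgHom.toLinearMap_apply, map_one]
    refine (Algebra.TensorProduct.quotIdealMapEquivTensorQuot D I).symm.injective ?_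
    rw [map_zero, ← map_one (Ideal.Quotient.mk I), Algebra.TensorProduct.quotIdealMapEquivTensorQuot_symm_tmul, one_smul]
    exact (Submodule.Quotient.mk_eq_zero _).2 (hI hd)
  have h12 : (f₁.toLinearMap.prod f₂.toLinearMap).lTensor D (d ⊗ₜ[B] (1 : B ⧸ K)) = 0 := by
    refine (TensorProduct.prodRight B B D (D ⧸ H) (B ⧸ I)).injective ?_
    rw [LinearMap.lTensor_tmul, LinearMap.prod_apply, map_zero]
    rw [LinearMap.lTensor_tmul] at h1 h2
    exact Prod.ext h1 h2
  have h3 : d ⊗ₜ[B] (1 : B ⧸ K) = 0 :=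
    Module.Flat.lTensor_preserves_injective_linearMap _ hinj (h12.trans (map_zero _).symm)
  have h4 := congrArg (Algebra.TensorProduct.quotIdealMapEquivTensorQuot D K).symm h3
  rw [map_zero, ← map_one (Ideal.Quotient.mk K), Algebra.TensorProduct.quotIdealMapEquivTensorQuot_symm_tmul, one_smul] at h4
  exact (Submodule.Quotient.mk_eq_zero _).1 h4

namespace EtRel

variable {B C : Type u} [CommRing B] [CommRing C] (r : EtRel B C)

/-- The pullbacks of `N` to tuples of more than `m` apart points coincide. -/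
def Inv (m : ℕ) (N : Ideal B) : Prop :=
  ∀ (l : ℕ), m ≤ l → ∀ (T : Type u) [CommRing T] (q : Fin (l + 1) → B →+* T),
    (∀ i j, i ≠ j → r.Apart (q i) (q j)) → ∀ i j, N.map (q i) = N.map (q j)

theorem inv_of_bound {d : ℕ}
    (hd : ∀ (F : Type u) [Field F] (m : ℕ) (q : Fin m → B →+* F), (∀ i j, i ≠ j → r.Apart (q i) (q j)) → m ≤ d)
    (N : Ideal B) : r.Inv d N := fun l hl T _ q hq i j => by
  rcases subsingleton_or_nontrivial T with h | h
  · exact Subsingleton.elim _ _
  obtain ⟨M, hM⟩ := Ideal.exists_maximal T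
  letI := Ideal.Quotient.field M
  have := hd (T ⧸ M) (l + 1) (fun i => (Ideal.Quotient.mk M).comp (q i)) fun i j hij => r.apart_comp _ (hq i j hij)
  omega

/-- A point of the tuple and any related point. -/
theorem map_le_iSup {m : ℕ} {N : Ideal B} (hN : r.Inv (m + 1) N) {T : Type u} [CommRing T]
    (u : Fin (m + 1) → B →+* T) (hu : ∀ i j, i ≠ j → r.Apart (u i) (u j)) (w : B →+* T)
    (f : Fin (m + 1) → C →+* T) (hfs : ∀ i, (f i).comp r.s = u i) (hft : ∀ i, (f i).comp r.t = w) :
    N.map w ≤ ⨆ i, N.map (u i) := by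
  set J : Ideal T := ⨆ i, N.map (u i)
  let P : Ideal T := J.colon (N.map w : Set T)
  suffices hP : (1 : T) ∈ P from fun x hx => by
    have := Submodule.mem_colon.1 hP x hx
    rwa [one_smul] at this
  have hwx : ∀ (c : T), (∀ b ∈ N, c * w b ∈ J) → c ∈ P := fun c hc => Submodule.mem_colon.2 fun x hx => by
    have : N.map w ≤ Submodule.comap (LinearMap.mulLeft T c) J := Ideal.map_le_iff_le_comap.2 fun b hb => hc b hb
    exact this hx
  have he : ∀ i, f i r.e ∈ P := fun i => hwx _ fun b hb => by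
    have h0 : f i r.e * (f i (r.s b) - f i (r.t b)) = 0 := by
      rw [← map_sub, ← map_mul, r.e_mul_sub, map_zero]
    rw [mul_sub, sub_eq_zero] at h0
    rw [← hft i, RingHom.comp_apply, ← h0]
    refine J.mul_mem_left _ ?_
    rw [← RingHom.comp_apply (f i) r.s, hfs]
    exact le_iSup (fun i => N.map (u i)) i (Ideal.mem_map_of_mem _ hb)
  let K : Ideal T := Ideal.span (Set.range fun i => f i r.e)
  let Pi : T := ∏ i, (1 - f i r.e)
  have hKP : K ≤ P := Ideal.span_le.2 (by rintro _ ⟨i, rfl⟩; exact he i)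
  have hPiK : 1 - Pi ∈ K := Ideal.Quotient.eq_zero_iff_mem.1 (by
    rw [map_sub, map_one, map_prod, Finset.prod_eq_one, sub_self]
    intro i _
    rw [map_sub, map_one, Ideal.Quotient.eq_zero_iff_mem.2 (Ideal.subset_span ⟨i, rfl⟩ : f i r.e ∈ K), sub_zero])
  have hKPi : ∀ k ∈ K, Pi * k = 0 := fun k hk => by
    refine Submodule.span_induction ?_ (mul_zero _) (fun a b _ _ ha hb => by rw [mul_add, ha, hb, add_zero])
      (fun c a _ ha => by rw [smul_eq_mul, mul_left_comm, ha, mul_zero]) hk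
    rintro _ ⟨i, rfl⟩
    show (∏ j, (1 - f j r.e)) * f i r.e = 0
    rw [← Finset.mul_prod_erase Finset.univ _ (Finset.mem_univ i), mul_assoc, mul_comm, mul_assoc, mul_sub,
      mul_one, (r.e_idem.map (f i)).eq, sub_self, mul_zero]
  have hPi : Pi ∈ P := hwx _ fun b hb => by
    let π := Ideal.Quotient.mk K
    have hap : ∀ i, r.Apart (π.comp (u i)) (π.comp w) := fun i => by
      rw [← hfs i, ← hft i]
      exact r.mem_span_e_of_apart K (f i) (Ideal.subset_span ⟨i, rfl⟩)
    have key := hN (m + 1) le_rfl (T ⧸ K) (Fin.snoc (fun i => π.comp (u i)) (π.comp w)) (fun i j hij => by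
      induction i using Fin.lastCases with
      | last =>
        induction j using Fin.lastCases with
        | last => exact absurd rfl hij
        | cast j => rw [Fin.snoc_last, Fin.snoc_castSucc]; exact r.apart_symm (hap j)
      | cast i =>
        induction j using Fin.lastCases with
        | last => rw [Fin.snoc_last, Fin.snoc_castSucc]; exact hap i
        | cast j =>
          rw [Fin.snoc_castSucc, Fin.snoc_castSucc]
          exact r.apart_comp π (hu i j fun h => hij (by rw [h]))) (Fin.last _) (Fin.castSucc 0)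
    rw [Fin.snoc_last, Fin.snoc_castSucc, ← Ideal.map_map, ← Ideal.map_map] at key
    obtain ⟨y, hy, hyb⟩ := (Ideal.mem_map_iff_of_surjective π Ideal.Quotient.mk_surjective).1
      (key.le (Ideal.mem_map_of_mem π (Ideal.mem_map_of_mem w hb)))
    have hd : Pi * (w b - y) = 0 := hKPi _ (Ideal.Quotient.eq.1 hyb.symm)
    rw [mul_sub, sub_eq_zero] at hd
    rw [hd]
    exact J.mul_mem_left _ (le_iSup (fun i => N.map (u i)) 0 hy)
  have h1 : (1 - Pi) + Pi ∈ P := P.add_mem (hKP hPiK) hPi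
  rwa [sub_add_cancel] at h1

/-- Enlarge `N` to one invariant on tuples of more than `m` points. -/
theorem exists_inv_step {m : ℕ} {N I : Ideal B} (hI : I.map r.s = I.map r.t) (hN : r.Inv (m + 1) N)
    (hNI : N ≤ I) (hfg : N.FG) : ∃ N' : Ideal B, N'.FG ∧ N ≤ N' ∧ N' ≤ I ∧ r.Inv m N' := by
  classical
  obtain ⟨D, _, p, hp, hflat, huniv⟩ := r.exists_tuple m
  letI := (p 0).toAlgebra
  haveI : Module.Flat B D := hflat
  let H : Ideal D := ⨆ i, N.map (p i)
  have hIp : ∀ i, I.map (p i) = I.map (p 0) := fun i => by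
    rcases eq_or_ne i 0 with rfl | hi
    · rfl
    obtain ⟨f, hs, ht, -⟩ := hp i 0 hi
    rw [← hs, ← ht, ← Ideal.map_map, ← Ideal.map_map, hI]
  have hHI : H ≤ I.map (p 0) := iSup_le fun i => hIp i ▸ Ideal.map_mono hNI
  have hsym : H.map (Algebra.TensorProduct.includeLeftRingHom : D →+* D ⊗[B] D) ≤
      H.map (Algebra.TensorProduct.includeRight (R := B) (A := D) (B := D)).toRingHom := by
    let l : D →+* D ⊗[B] D := Algebra.TensorProduct.includeLeftRingHom
    let rr : D →+* D ⊗[B] D := (Algebra.TensorProduct.includeRight (R := B) (A := D) (B := D)).toRingHom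
    have hlr : l.comp (p 0) = rr.comp (p 0) := RingHom.ext fun b => by
      show (algebraMap B D b) ⊗ₜ[B] (1 : D) = (1 : D) ⊗ₜ[B] (algebraMap B D b)
      rw [Algebra.algebraMap_eq_smul_one, TensorProduct.smul_tmul]
    show H.map l ≤ H.map rr
    simp only [H, Ideal.map_iSup, Ideal.map_map]
    refine iSup_le fun j => ?_
    have hex : ∀ i, ∃ f : C →+* D ⊗[B] D, f.comp r.s = rr.comp (p i) ∧ f.comp r.t = l.comp (p j) := fun i => by
      by_cases hi : i = 0
      · by_cases hj : j = 0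
        · exact ⟨(rr.comp (p i)).comp r.ε, by rw [RingHom.comp_assoc, r.εs, RingHom.comp_id],
            by rw [RingHom.comp_assoc, r.εt, RingHom.comp_id, hi, hj, hlr]⟩
        · obtain ⟨g, hs, ht, -⟩ := r.apart_comp l (hp 0 j (Ne.symm hj))
          exact ⟨g, by rw [hs, hi, hlr], ht⟩
      · obtain ⟨g, hs, ht, -⟩ := r.apart_comp rr (hp i 0 hi)
        by_cases hj : j = 0
        · exact ⟨g, hs, by rw [ht, hj, hlr]⟩
        · obtain ⟨g', hs', ht', -⟩ := r.apart_comp l (hp 0 j (Ne.symm hj))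
          obtain ⟨h, hhs, hht⟩ := r.trans g g' (by rw [ht, hs', hlr])
          exact ⟨h, hhs.trans hs, hht.trans ht'⟩
    choose f hfs hft using hex
    exact r.map_le_iSup hN (fun i => rr.comp (p i)) (fun i j hij => r.apart_comp rr (hp i j hij)) _ f hfs hft
  have hdesc := le_map_comap_inf I H hHI hsym
  obtain ⟨G, hG⟩ : H.FG := Submodule.fg_iSup _ fun i => hfg.map (p i)
  have hGK : ∀ g ∈ G, ∃ S : Finset B, (S : Set B) ⊆ ↑(H.comap (p 0) ⊓ I) ∧ g ∈ Ideal.span (p 0 '' (S : Set B)) := by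
    intro g hg
    have h1 : g ∈ Ideal.span (p 0 '' ↑(H.comap (p 0) ⊓ I)) := hdesc (hG ▸ Ideal.subset_span hg)
    obtain ⟨S, hS, hgS⟩ := Submodule.mem_span_finite_of_mem_span h1
    obtain ⟨S', hS', rfl⟩ := Finset.subset_set_image_iff.1 hS
    exact ⟨S', hS', by rwa [Finset.coe_image] at hgS⟩
  choose! S hS hgS using hGK
  let N' : Ideal B := N ⊔ Ideal.span ↑(G.biUnion S)
  have hN'K : N' ≤ H.comap (p 0) ⊓ I := sup_le
    (le_inf (Ideal.map_le_iff_le_comap.1 (le_iSup (fun i => N.map (p i)) 0)) hNI)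
    (Ideal.span_le.2 fun x hx => by
      obtain ⟨g, hg, hxg⟩ := Finset.mem_biUnion.1 hx
      exact hS g hg hxg)
  have hN'H : N'.map (p 0) = H := by
    refine le_antisymm (Ideal.map_le_iff_le_comap.2 fun x hx => (hN'K hx).1) ?_
    rw [← hG, Ideal.span_le]
    intro g hg
    refine (Ideal.span_le.2 ?_ : Ideal.span (p 0 '' (S g : Set B)) ≤ N'.map (p 0)) (hgS g hg)
    rintro _ ⟨x, hx, rfl⟩
    exact Ideal.mem_map_of_mem _
      (le_sup_right (a := N) (Ideal.subset_span (Finset.mem_biUnion.2 ⟨g, hg, hx⟩)))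
  refine ⟨N', Submodule.FG.sup hfg (Submodule.fg_span (Finset.finite_toSet _)), le_sup_left, fun x hx => (hN'K hx).2,
    fun l hl T _ q hq => ?_⟩
  suffices key : ∀ i, N'.map (q i) = ⨆ j, N.map (q j) from fun i j => by rw [key i, key j]
  intro i
  let σ : Fin (m + 1) → Fin (l + 1) := fun k => Equiv.swap 0 i (Fin.castLE (by omega) k)
  have hσ : Function.Injective σ := (Equiv.injective _).comp (Fin.castLE_injective _)
  have hσ0 : σ 0 = i := Equiv.swap_apply_left 0 i
  obtain ⟨φ, hφ⟩ := huniv T (fun k => q (σ k)) fun a b hab => hq _ _ (hσ.ne hab)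
  rw [← hσ0, ← hφ 0, ← Ideal.map_map, hN'H, Ideal.map_iSup]
  simp only [Ideal.map_map, hφ]
  rcases eq_or_lt_of_le hl with rfl | hlt
  · exact (Finite.injective_iff_bijective.1 hσ).2.iSup_comp (g := fun j => N.map (q j))
  · have h : ∀ a b, N.map (q a) = N.map (q b) := hN l hlt T q hq
    rw [show (fun k => N.map (q (σ k))) = fun _ => N.map (q 0) from funext fun k => h _ _,
      show (fun j => N.map (q j)) = fun _ => N.map (q 0) from funext fun k => h _ _, iSup_const, iSup_const]

/-- Every finitely generated ideal inside an invariant ideal lies in a finitely generated invariant one. -/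
theorem exists_invariant_hull {d : ℕ}
    (hd : ∀ (F : Type u) [Field F] (m : ℕ) (q : Fin m → B →+* F), (∀ i j, i ≠ j → r.Apart (q i) (q j)) → m ≤ d)
    {I N : Ideal B} (hI : I.map r.s = I.map r.t) (hNI : N ≤ I) (hfg : N.FG) :
    ∃ H : Ideal B, H.FG ∧ N ≤ H ∧ H ≤ I ∧ H.map r.s = H.map r.t := by
  have down : ∀ k, k ≤ d → ∃ N' : Ideal B, N'.FG ∧ N ≤ N' ∧ N' ≤ I ∧ r.Inv (d - k) N' := fun k => by
    induction k with
    | zero => exact fun _ => ⟨N, hfg, le_rfl, hNI, r.inv_of_bound hd N⟩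
    | succ k ih =>
      intro hk
      obtain ⟨N₁, h1, h2, h3, h4⟩ := ih (by omega)
      rw [show d - k = (d - (k + 1)) + 1 by omega] at h4
      obtain ⟨N₂, g1, g2, g3, g4⟩ := r.exists_inv_step hI h4 h3 h1
      exact ⟨N₂, g1, h2.trans g2, g3, g4⟩
  obtain ⟨H, h1, h2, h3, h4⟩ := down d le_rfl
  rw [Nat.sub_self] at h4
  have h4' : r.Inv (0 + 1) H := fun l hl => h4 l (Nat.zero_le l)
  refine ⟨H, h1, h2, h3, le_antisymm ?_ ?_⟩
  · obtain ⟨g, hgs, hgt⟩ := r.symm (RingHom.id C)
    rw [RingHom.id_comp] at hgs hgt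
    refine le_of_le_of_eq (r.map_le_iSup h4' (fun _ => r.t) (fun i j h => absurd (Subsingleton.elim (α := Fin 1) i j) h)
      r.s (fun _ => g) (fun _ => hgs) fun _ => hgt) iSup_const
  · refine le_of_le_of_eq (r.map_le_iSup h4' (fun _ => r.s) (fun i j h => absurd (Subsingleton.elim (α := Fin 1) i j) h)
      r.t (fun _ => RingHom.id C) (fun _ => RingHom.id_comp _) fun _ => RingHom.id_comp _) iSup_const

end EtRel

end ThickQuotLib
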