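import Mathlib.RingTheory.Etale.Basic
import Mathlib.RingTheory.Idempotents
import Mathlib.RingTheory.RingHom.Flat
import Mathlib.RingTheory.RingHom.Etale
import Mathlib.RingTheory.Flat.Basic
import Mathlib.LinearAlgebra.TensorProduct.RightExactness
import Mathlib.RingTheory.TensorProduct.Quotient
import Mathlib.RingTheory.Finiteness.Ideal
import Mathlib.RingTheory.Ideal.Colon

/-!
# Étale equivalence relations of affine schemes, tuples of distinct related points
-/

set_option autoImplicit false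
set_option linter.all false

noncomputable section

universe u

open TensorProduct

namespace ThickQuotLib

variable {B C : Type u} [CommRing B] [CommRing C]

/-- An étale equivalence relation on `Spec B`, given by `C`, with structure maps `s`, `t`. -/
structure EtRel (B C : Type u) [CommRing B] [CommRing C] where
  /-- first projection -/
  s : B →+* C
  /-- second projection -/
  t : B →+* C
  etale : s.Etale
  /-- the diagonal -/
  ε : C →+* B
  εs : ε.comp s = RingHom.id B
  εt : ε.comp t = RingHom.id B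
  epi : ∀ {T : Type u} [CommRing T] (f g : C →+* T), f.comp s = g.comp s → f.comp t = g.comp t → f = g
  symm : ∀ {T : Type u} [CommRing T] (f : C →+* T), ∃ h : C →+* T, h.comp s = f.comp t ∧ h.comp t = f.comp s
  trans : ∀ {T : Type u} [CommRing T] (f g : C →+* T), f.comp t = g.comp s →
    ∃ h : C →+* T, h.comp s = f.comp s ∧ h.comp t = g.comp t

namespace EtRel

variable (r : EtRel B C)

theorem ker_ε_fg_idem : (RingHom.ker r.ε).FG ∧ IsIdempotentElem (RingHom.ker r.ε) := by
  letI := r.s.toAlgebra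
  haveI : Algebra.Etale B C := r.etale
  let εa : C →ₐ[B] B := { r.ε with commutes' := fun b => RingHom.congr_fun r.εs b }
  have hsurj : Function.Surjective εa := fun b => ⟨r.s b, RingHom.congr_fun r.εs b⟩
  refine ⟨Algebra.FinitePresentation.ker_fG_of_surjective εa hsurj, ?_⟩
  set J : Ideal C := RingHom.ker r.ε
  have hh : Ideal.Quotient.mkₐ B (J ^ 2) = (IsScalarTower.toAlgHom B B (C ⧸ J ^ 2)).comp εa := by
    refine Algebra.FormallyUnramified.ext (I := J.map (Ideal.Quotient.mk (J ^ 2))) ⟨2, ?_⟩ fun c => ?_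
    · rw [← Ideal.map_pow, Ideal.map_quotient_self]; rfl
    · refine Ideal.Quotient.eq.2 ?_
      show Ideal.Quotient.mk (J ^ 2) c - Ideal.Quotient.mk (J ^ 2) (r.s (r.ε c)) ∈ _
      rw [← map_sub]
      refine Ideal.mem_map_of_mem _ ?_
      rw [RingHom.mem_ker, map_sub, ← r.ε.comp_apply r.s, r.εs, RingHom.id_apply, sub_self]
  refine le_antisymm Ideal.mul_le_left fun c hc => ?_
  have h1 := AlgHom.congr_fun hh c
  have h2 : εa c = 0 := hc
  rw [AlgHom.comp_apply, h2, map_zero, Ideal.Quotient.mkₐ_eq_mk, Ideal.Quotient.eq_zero_iff_mem, sq] at h1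
  exact h1

theorem exists_idem : ∃ e : C, IsIdempotentElem e ∧ r.ε e = 1 ∧ ∀ c, r.ε c = 0 → e * c = 0 := by
  obtain ⟨h1, h2⟩ := r.ker_ε_fg_idem
  obtain ⟨f, hf, hJ⟩ := (Ideal.isIdempotentElem_iff_of_fg _ h1).1 h2
  refine ⟨1 - f, hf.one_sub, ?_, fun c hc => ?_⟩
  · have hf0 : r.ε f = 0 := RingHom.mem_ker.1 (hJ ▸ Ideal.mem_span_singleton_self f)
    rw [map_sub, map_one, hf0, sub_zero]
  · obtain ⟨a, rfl⟩ := Ideal.mem_span_singleton.1 (show c ∈ Ideal.span {f} from (le_of_eq hJ) (RingHom.mem_ker.2 hc))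
    rw [sub_mul, one_mul, ← mul_assoc, hf.eq, sub_self]

/-- The idempotent of the diagonal. -/
def e : C := r.exists_idem.choose

theorem e_idem : IsIdempotentElem r.e := r.exists_idem.choose_spec.1
theorem ε_e : r.ε r.e = 1 := r.exists_idem.choose_spec.2.1

theorem e_mul_sub (b : B) : r.e * (r.s b - r.t b) = 0 :=
  r.exists_idem.choose_spec.2.2 _ (by
    rw [map_sub, ← r.ε.comp_apply r.s, ← r.ε.comp_apply r.t, r.εs, r.εt, sub_self])

/-- Two points which are related and nowhere equal. -/
def Apart {T : Type u} [CommRing T] (x y : B →+* T) : Prop :=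
  ∃ f : C →+* T, f.comp r.s = x ∧ f.comp r.t = y ∧ f r.e = 0

theorem apart_comp {T T' : Type u} [CommRing T] [CommRing T'] {x y : B →+* T} (φ : T →+* T') (h : r.Apart x y) :
    r.Apart (φ.comp x) (φ.comp y) := by
  obtain ⟨f, rfl, rfl, hf⟩ := h
  exact ⟨φ.comp f, rfl, rfl, by rw [RingHom.comp_apply, hf, map_zero]⟩

theorem apart_symm {T : Type u} [CommRing T] {x y : B →+* T} (h : r.Apart x y) : r.Apart y x := by
  obtain ⟨f, rfl, rfl, hf⟩ := h
  obtain ⟨g, hgs, hgt⟩ := r.symm f
  refine ⟨g, hgs, hgt, ?_⟩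
  let q := Ideal.Quotient.mk (Ideal.span {1 - g r.e})
  have hq : q (g r.e) = 1 := by
    rw [eq_comm, ← map_one q]
    exact Ideal.Quotient.eq.2 (Ideal.mem_span_singleton_self _)
  have heq : ∀ b, q (g (r.s b)) = q (g (r.t b)) := fun b => by
    rw [← sub_eq_zero, ← map_sub, ← map_sub]
    calc q (g (r.s b - r.t b)) = q (g r.e) * q (g (r.s b - r.t b)) := by rw [hq, one_mul]
      _ = 0 := by rw [← map_mul, ← map_mul, r.e_mul_sub, map_zero, map_zero]
  have h1 : q.comp f = (q.comp (f.comp r.s)).comp r.ε := r.epi _ _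
    (by ext b; show _ = q (f (r.s (r.ε (r.s b)))); rw [← r.ε.comp_apply r.s, r.εs]; rfl)
    (RingHom.ext fun b => by
      show q (f (r.t b)) = q (f (r.s (r.ε (r.t b))))
      rw [← r.ε.comp_apply r.t, r.εt, RingHom.id_apply, ← f.comp_apply r.t, ← f.comp_apply r.s, ← hgs, ← hgt]
      exact heq b)
  have h2 : q (f r.e) = q (f (r.s (r.ε r.e))) := RingHom.congr_fun h1 r.e
  rw [hf, map_zero, r.ε_e, map_one, map_one, map_one] at h2
  calc g r.e = g r.e * g r.e := (r.e_idem.map g).eq.symm
    _ = 0 := by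
      have h3 : (1 : T) ∈ Ideal.span {1 - g r.e} := Ideal.Quotient.eq_zero_iff_mem.1 (by rw [map_one]; exact h2.symm)
      obtain ⟨a, ha⟩ := Ideal.mem_span_singleton.1 h3
      have h4 : g r.e * (1 - g r.e) = 0 := by rw [mul_sub, mul_one, (r.e_idem.map g).eq, sub_self]
      calc g r.e * g r.e = g r.e * g r.e * 1 := (mul_one _).symm
        _ = g r.e * g r.e * ((1 - g r.e) * a) := by rw [← ha]
        _ = g r.e * (g r.e * (1 - g r.e)) * a := by ring
        _ = 0 := by rw [h4]; ring

theorem mem_span_e_of_apart {T : Type u} [CommRing T] (K : Ideal T) (f : C →+* T) (h : f r.e ∈ K) :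
    r.Apart ((Ideal.Quotient.mk K).comp (f.comp r.s)) ((Ideal.Quotient.mk K).comp (f.comp r.t)) :=
  ⟨(Ideal.Quotient.mk K).comp f, rfl, rfl, Ideal.Quotient.eq_zero_iff_mem.2 h⟩

end EtRel

theorem flat_quotient_idem {T : Type u} [CommRing T] (I : Ideal T) (hfg : I.FG) (hI : IsIdempotentElem I) :
    Module.Flat T (T ⧸ I) := by
  obtain ⟨e, he, rfl⟩ := (Ideal.isIdempotentElem_iff_of_fg _ hfg).1 hI
  haveI : IsLocalization.Away (1 - e) (T ⧸ Ideal.span {e}) :=
    IsLocalization.away_of_isIdempotentElem he.one_sub (by rw [sub_sub_cancel]; exact Ideal.mk_ker)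
      Ideal.Quotient.mk_surjective
  exact IsLocalization.flat _ (Submonoid.powers (1 - e))

namespace EtRel

variable (r : EtRel B C)

/-- The universal tuple of pairwise apart related points. -/
theorem exists_tuple (m : ℕ) :
    ∃ (D : Type u) (_ : CommRing D) (p : Fin (m + 1) → B →+* D),
      (∀ i j, i ≠ j → r.Apart (p i) (p j)) ∧ (p 0).Flat ∧
      ∀ (T : Type u) [CommRing T] (q : Fin (m + 1) → B →+* T), (∀ i j, i ≠ j → r.Apart (q i) (q j)) →
        ∃ φ : D →+* T, ∀ i, φ.comp (p i) = q i := by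
  induction m with
  | zero =>
    refine ⟨B, inferInstance, fun _ => RingHom.id B, fun i j h => absurd (Subsingleton.elim (α := Fin 1) i j) h,
      RingHom.Flat.id B, fun T _ q _ => ⟨q 0, fun i => ?_⟩⟩
    rw [RingHom.comp_id, Subsingleton.elim (α := Fin 1) i 0]
  | succ m ih =>
    obtain ⟨D, _, p, hp, hflat, huniv⟩ := ih
    letI := (p 0).toAlgebra
    letI := r.s.toAlgebra
    haveI : Algebra.Etale B C := r.etale
    haveI : Module.Flat B D := hflat
    let ι₁ : D →+* D ⊗[B] C := Algebra.TensorProduct.includeLeftRingHom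
    let ι₂ : C →+* D ⊗[B] C := (Algebra.TensorProduct.includeRight (R := B) (A := D) (B := C)).toRingHom
    have hι : ι₁.comp (p 0) = ι₂.comp r.s := RingHom.ext fun b => by
      show (algebraMap B D b) ⊗ₜ[B] (1 : C) = (1 : D) ⊗ₜ[B] (algebraMap B C b)
      rw [Algebra.algebraMap_eq_smul_one, Algebra.algebraMap_eq_smul_one, TensorProduct.smul_tmul]
    have hpair : ∀ i, ∃ f : C →+* D ⊗[B] C, f.comp r.s = ι₁.comp (p i) ∧ f.comp r.t = ι₂.comp r.t := fun i => by
      by_cases hi : i = 0
      · exact ⟨ι₂, by rw [hi, hι], rfl⟩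
      · obtain ⟨g, hgs, hgt, -⟩ := r.apart_comp ι₁ (hp i 0 hi)
        obtain ⟨h, hs, ht⟩ := r.trans g ι₂ (by rw [hgt, hι])
        exact ⟨h, hs.trans hgs, ht⟩
    choose f hfs hft using hpair
    let K : Ideal (D ⊗[B] C) := Ideal.span (Set.range fun i => f i r.e)
    let π := Ideal.Quotient.mk K
    have hKfg : K.FG := Submodule.fg_span (Set.finite_range _)
    have hKidem : IsIdempotentElem K := by
      refine le_antisymm Ideal.mul_le_left (Ideal.span_le.2 ?_)
      rintro _ ⟨i, rfl⟩
      have h2 := Ideal.mul_mem_mul (Ideal.subset_span ⟨i, rfl⟩ : f i r.e ∈ K) (Ideal.subset_span ⟨i, rfl⟩ : f i r.e ∈ K)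
      rw [(r.e_idem.map (f i)).eq] at h2
      exact h2
    let new : B →+* (D ⊗[B] C) ⧸ K := π.comp (ι₂.comp r.t)
    let old : Fin (m + 1) → B →+* (D ⊗[B] C) ⧸ K := fun i => π.comp (ι₁.comp (p i))
    have hnew : ∀ i, r.Apart (old i) new := fun i =>
      ⟨π.comp (f i), by rw [RingHom.comp_assoc, hfs], by rw [RingHom.comp_assoc, hft],
        Ideal.Quotient.eq_zero_iff_mem.2 (Ideal.subset_span ⟨i, rfl⟩)⟩
    refine ⟨(D ⊗[B] C) ⧸ K, inferInstance, Fin.snoc old new, fun i j hij => ?_, ?_, fun T _ q hq => ?_⟩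
    · induction i using Fin.lastCases with
      | last =>
        induction j using Fin.lastCases with
        | last => exact absurd rfl hij
        | cast j => rw [Fin.snoc_last, Fin.snoc_castSucc]; exact r.apart_symm (hnew j)
      | cast i =>
        induction j using Fin.lastCases with
        | last => rw [Fin.snoc_last, Fin.snoc_castSucc]; exact hnew i
        | cast j =>
          rw [Fin.snoc_castSucc, Fin.snoc_castSucc]
          exact r.apart_comp π (r.apart_comp ι₁ (hp i j fun h => hij (by rw [h])))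
    · have h0 : Fin.snoc (α := fun _ => B →+* (D ⊗[B] C) ⧸ K) old new (0 : Fin (m + 1 + 1)) = old 0 := by
        rw [show (0 : Fin (m + 1 + 1)) = Fin.castSucc 0 from rfl, Fin.snoc_castSucc]
      rw [h0]
      refine RingHom.Flat.comp (RingHom.Flat.comp hflat ?_) ?_
      · exact RingHom.flat_algebraMap_iff.2 (inferInstanceAs (Module.Flat D (D ⊗[B] C)))
      · exact RingHom.flat_algebraMap_iff.2 (flat_quotient_idem K hKfg hKidem)
    · obtain ⟨ψ, hψ⟩ := huniv T (fun i => q i.castSucc) fun i j hij =>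
        hq _ _ fun h => hij (Fin.castSucc_injective _ h)
      obtain ⟨g, hgs, hgt, -⟩ := hq (Fin.castSucc 0) (Fin.last _) (Fin.castSucc_lt_last 0).ne
      letI := (q (Fin.castSucc 0)).toAlgebra
      let ψa : D →ₐ[B] T := { ψ with commutes' := fun b => RingHom.congr_fun (hψ 0) b }
      let ga : C →ₐ[B] T := { g with commutes' := fun b => RingHom.congr_fun hgs b }
      let φ₀ : D ⊗[B] C →+* T := (Algebra.TensorProduct.lift ψa ga fun _ _ => .all _ _).toRingHom
      have h₁ : φ₀.comp ι₁ = ψ := RingHom.ext fun d => by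
        show Algebra.TensorProduct.lift ψa ga (fun _ _ => .all _ _) (d ⊗ₜ 1) = _
        rw [Algebra.TensorProduct.lift_tmul, map_one, mul_one]; rfl
      have h₂ : φ₀.comp ι₂ = g := RingHom.ext fun c => by
        show Algebra.TensorProduct.lift ψa ga (fun _ _ => .all _ _) (1 ⊗ₜ c) = _
        rw [Algebra.TensorProduct.lift_tmul, map_one, one_mul]; rfl
      have hK : ∀ a ∈ K, φ₀ a = 0 := fun a ha => by
        refine RingHom.mem_ker.1 ((Ideal.span_le.2 ?_ : K ≤ RingHom.ker φ₀) ha)
        rintro _ ⟨i, rfl⟩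
        obtain ⟨g', hgs', hgt', h0⟩ := hq i.castSucc (Fin.last _) (Fin.castSucc_lt_last i).ne
        have : φ₀.comp (f i) = g' := r.epi _ _
          (by rw [RingHom.comp_assoc, hfs, ← RingHom.comp_assoc, h₁, hψ, hgs'])
          (by rw [RingHom.comp_assoc, hft, ← RingHom.comp_assoc, h₂, hgt, hgt'])
        exact RingHom.mem_ker.2 ((RingHom.congr_fun this r.e).trans h0)
      refine ⟨Ideal.Quotient.lift K φ₀ hK, fun i => ?_⟩
      induction i using Fin.lastCases with
      | last =>
        rw [Fin.snoc_last]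
        show φ₀.comp (ι₂.comp r.t) = _
        rw [← RingHom.comp_assoc, h₂, hgt]
      | cast i =>
        rw [Fin.snoc_castSucc]
        show φ₀.comp (ι₁.comp (p i)) = _
        rw [← RingHom.comp_assoc, h₁, hψ]

end EtRel

end ThickQuotLib
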