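import Groth.Agent.ThickQuotLib.AffineData
import Groth.Agent.AlgSpLib.OnePoint
import Groth.Agent.AlgSpLib.SheafDesc
import Groth.Agent.AlgSpThickLib.Topo
import Groth.Agent.ChevLib.Main
import Groth.Prelude.Def_AlgSpInf
import Mathlib.AlgebraicGeometry.Sites.Fpqc

/-!
# A thickening of an affine scheme is an affine scheme
-/

set_option autoImplicit false
set_option linter.all false
set_option backward.isDefEq.respectTransparency false
set_option backward.isDefEq.respectTransparency.types false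
set_option maxHeartbeats 1600000

noncomputable section

universe u

open CategoryTheory CategoryTheory.Limits AlgebraicGeometry AlgSp AlgSpLib TensorProduct

namespace ThickQuotLib

variable {S : Scheme.{u}}

/-- The point with given map on rings, over the base. -/
def overPt {U : Over S} [IsAffine U.left] {T : Type u} [CommRing T] (f : Γ(U.left, ⊤) →+* T) :
    Over.mk (pt U.left f ≫ U.hom) ⟶ U := Over.homMk (pt U.left f) rfl

theorem evPt_homMk {R' U : Over S} {T : Type u} [CommRing T] {str : Spec (CommRingCat.of T) ⟶ S}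
    (g : Over.mk str ⟶ R') (r : R' ⟶ U) :
    evPt ((g ≫ r).left : Spec (CommRingCat.of T) ⟶ U.left) = (evPt (g.left : Spec (CommRingCat.of T) ⟶ R'.left)).comp r.left.appTop.hom :=
  evPt_comp _ _

/-- An affine chart of a thickening of an affine scheme gives effective data. -/
theorem isRepSh_of_thick_affine {F G : Sp S} (hF : IsAlgSpace F) (hG : IsAlgSpace G) {i : F ⟶ G}
    (hi : IsThickMor i) {T₀ : Over S} [IsAffine T₀.left] (eF : (yon S).obj T₀ ≅ F) :
    ∃ M : Over S, IsAffine M.left ∧ Nonempty ((yon S).obj M ≅ G) := by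
  let j : (yon S).obj T₀ ⟶ G := eF.hom ≫ i
  have hj : IsThickMor j := repWith_of_isPullback
    (IsPullback.of_horiz_isIso (fst := eF.hom) (snd := j) (f := i) (g := 𝟙 G) ⟨by simp [j]⟩) hi
  haveI : Mono j := AlgSpThickLib.mono_of_thick hj
  have hqc : IsQuasiCompactSp G := isQuasiCompactSp_of_surjective hG
    (f := j) (map_surjective_of_repWith (repWith_mono inf_le_right hj)) (isQuasiCompactSp_yon T₀)
  obtain ⟨U, b, hU, hb, hbs⟩ := exists_affine_chart hqc
  haveI := hU
  obtain ⟨W, wT, wU, sqW⟩ := exists_isPullback_yon j b hj.rep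
  have hwU := (isThickMor_yon_map_iff wU).1 (repWith_of_isPullback sqW hj)
  obtain ⟨hwUc, hwUs⟩ : IsClosedImmersion wU.left ∧ Surjective wU.left :=
    ⟨hwU.1, hwU.2⟩
  haveI := hwUc
  haveI := hwUs
  haveI : IsAffine W.left := isAffine_of_isAffineHom wU.left
  haveI : Etale wT.left := etale_left (repWith_of_isPullback sqW.flip hb)
  haveI : Surjective wT.left := surjective_left (repWith_of_isPullback sqW.flip hbs)
  obtain ⟨R, r₁, r₂, sqR⟩ := exists_isPullback_yon b b hb.rep
  haveI : Etale r₁.left := etale_left (repWith_of_isPullback sqR.flip hb)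
  let WR : Over S := pullback r₁ wU
  let p₁ : WR ⟶ R := pullback.fst r₁ wU
  let p₂ : WR ⟶ W := pullback.snd r₁ wU
  have sqWR : IsPullback p₁ p₂ r₁ wU := IsPullback.of_hasPullback _ _
  have sqA := ((sqWR.map (yon S)).paste_horiz sqR.flip)
  have hwj : (yon S).map wU ≫ b = (yon S).map wT ≫ j := sqW.w.symm
  rw [hwj] at sqA
  let v' : (yon S).obj WR ⟶ (yon S).obj W := sqW.lift ((yon S).map (p₂ ≫ wT)) ((yon S).map (p₁ ≫ r₂)) (by
    rw [Functor.map_comp, Functor.map_comp]
    simpa [Category.assoc] using sqA.w.symm)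
  obtain ⟨v, hv⟩ := (yon S).map_surjective v'
  have hv1 : v ≫ wT = p₂ ≫ wT := (yon S).map_injective (by rw [Functor.map_comp, hv]; exact sqW.lift_fst _ _ _)
  have hv2 : v ≫ wU = p₁ ≫ r₂ := (yon S).map_injective (by rw [Functor.map_comp, hv]; exact sqW.lift_snd _ _ _)
  have sqWW : IsPullback v p₂ wT wT := by
    refine IsPullback.of_map (yon S) hv1 (IsPullback.of_right (h₁₂ := (yon S).map wU) (v₁₃ := b) (h₂₂ := j) ?_
      (by rw [← Functor.map_comp, ← Functor.map_comp, hv1]) sqW.flip)
    rw [← Functor.map_comp, hv2, Functor.map_comp]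
    exact sqA
  have sqWWl := sqWW.map (Over.forget S)
  have sqWRl := sqWR.map (Over.forget S)
  haveI : IsAffine WR.left := IsAffine.of_isPullback (show IsPullback v.left p₂.left wT.left wT.left from sqWWl)
  haveI : IsClosedImmersion p₁.left :=
    MorphismProperty.of_isPullback (P := @IsClosedImmersion) (show IsPullback p₁.left p₂.left r₁.left wU.left from sqWRl).flip hwUc
  haveI : Surjective p₁.left :=
    MorphismProperty.of_isPullback (P := @Surjective) (show IsPullback p₁.left p₂.left r₁.left wU.left from sqWRl).flip hwUs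
  haveI : IsAffine R.left := ChevLib.isAffine_of_surjective_universallyClosed p₁.left
  -- the relation on rings
  have hepi : ∀ {T : Type u} [CommRing T] (f g : Γ(R.left, ⊤) →+* T),
      f.comp r₁.left.appTop.hom = g.comp r₁.left.appTop.hom → f.comp r₂.left.appTop.hom = g.comp r₂.left.appTop.hom →
      f = g := by
    intro T _ f g h1 h2
    have e1 : pt R.left f ≫ r₁.left = pt R.left g ≫ r₁.left := by rw [pt_comp, pt_comp, h1]
    have e2 : pt R.left f ≫ r₂.left = pt R.left g ≫ r₂.left := by rw [pt_comp, pt_comp, h2]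
    have hstr : pt R.left f ≫ R.hom = pt R.left g ≫ R.hom := by
      rw [← Over.w r₁, reassoc_of% e1]
    let a : Over.mk (pt R.left f ≫ R.hom) ⟶ R := Over.homMk (pt R.left f) rfl
    let a' : Over.mk (pt R.left f ≫ R.hom) ⟶ R := Over.homMk (pt R.left g) hstr.symm
    have : a = a' := (yon S).map_injective (sqR.hom_ext
      (by rw [← Functor.map_comp, ← Functor.map_comp, show a ≫ r₁ = a' ≫ r₁ from Over.OverMorphism.ext e1])
      (by rw [← Functor.map_comp, ← Functor.map_comp, show a ≫ r₂ = a' ≫ r₂ from Over.OverMorphism.ext e2]))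
    rw [← evPt_pt R.left f, ← evPt_pt R.left g]
    exact congrArg evPt (congrArg (fun k => k.left) this)
  have hlift : ∀ {T : Type u} [CommRing T] {str : Spec (CommRingCat.of T) ⟶ S} (x y : Over.mk str ⟶ U),
      (yon S).map x ≫ b = (yon S).map y ≫ b → ∃ h : Γ(R.left, ⊤) →+* T,
        h.comp r₁.left.appTop.hom = evPt (x.left : Spec (CommRingCat.of T) ⟶ U.left) ∧
        h.comp r₂.left.appTop.hom = evPt (y.left : Spec (CommRingCat.of T) ⟶ U.left) := by
    intro T _ str x y hxy
    obtain ⟨c, hc⟩ := (yon S).map_surjective (sqR.lift ((yon S).map x) ((yon S).map y) hxy)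
    have c1 : c ≫ r₁ = x := (yon S).map_injective (by rw [Functor.map_comp, hc]; exact sqR.lift_fst _ _ _)
    have c2 : c ≫ r₂ = y := (yon S).map_injective (by rw [Functor.map_comp, hc]; exact sqR.lift_snd _ _ _)
    exact ⟨evPt (c.left : Spec (CommRingCat.of T) ⟶ R.left), by rw [← evPt_homMk, c1], by rw [← evPt_homMk, c2]⟩
  obtain ⟨δ', hδ1', hδ2'⟩ : ∃ δ : U ⟶ R, δ ≫ r₁ = 𝟙 U ∧ δ ≫ r₂ = 𝟙 U := by
    obtain ⟨c, hc⟩ := (yon S).map_surjective (sqR.lift ((yon S).map (𝟙 U)) ((yon S).map (𝟙 U)) rfl)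
    exact ⟨c, (yon S).map_injective (by rw [Functor.map_comp, hc]; exact sqR.lift_fst _ _ _),
      (yon S).map_injective (by rw [Functor.map_comp, hc]; exact sqR.lift_snd _ _ _)⟩
  let r : EtRel Γ(U.left, ⊤) Γ(R.left, ⊤) :=
    { s := r₁.left.appTop.hom
      t := r₂.left.appTop.hom
      etale := (HasRingHomProperty.iff_of_isAffine (P := @Etale) (f := r₁.left)).1 inferInstance
      ε := δ'.left.appTop.hom
      εs := by
        rw [← CommRingCat.hom_comp, ← Scheme.Hom.comp_appTop, ← Over.comp_left, hδ1', Over.id_left]; simp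
      εt := by
        rw [← CommRingCat.hom_comp, ← Scheme.Hom.comp_appTop, ← Over.comp_left, hδ2', Over.id_left]; simp
      epi := hepi
      symm := fun {T} _ f => by
        let a := overPt (U := R) f
        obtain ⟨h, h1, h2⟩ := hlift (a ≫ r₂) (a ≫ r₁) (by
          rw [Functor.map_comp, Functor.map_comp, Category.assoc, Category.assoc, sqR.w])
        rw [evPt_homMk, show evPt (a.left : Spec (CommRingCat.of T) ⟶ R.left) = f from evPt_pt R.left f] at h1 h2
        exact ⟨h, h1, h2⟩
      trans := fun {T} _ f g hfg => by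
        let a := overPt (U := R) f
        have e : pt R.left f ≫ r₂.left = pt R.left g ≫ r₁.left := by rw [pt_comp, pt_comp, hfg]
        let a' : Over.mk (pt R.left f ≫ R.hom) ⟶ R := Over.homMk (pt R.left g) (by
          show pt R.left g ≫ R.hom = pt R.left f ≫ R.hom
          conv_rhs => rw [← Over.w r₂, reassoc_of% e]
          rw [← Over.w r₁])
        have eo : a ≫ r₂ = a' ≫ r₁ := Over.OverMorphism.ext e
        obtain ⟨h, h1, h2⟩ := hlift (a ≫ r₁) (a' ≫ r₂) (by
          rw [Functor.map_comp, Category.assoc, sqR.w, ← Category.assoc, ← Functor.map_comp, eo, Functor.map_comp,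
            Functor.map_comp, Category.assoc, Category.assoc, sqR.w])
        rw [evPt_homMk, show evPt (a.left : Spec (CommRingCat.of T) ⟶ R.left) = f from evPt_pt R.left f] at h1
        rw [evPt_homMk, show evPt (a'.left : Spec (CommRingCat.of T) ⟶ R.left) = g from evPt_pt R.left g] at h2
        exact ⟨h, h1, h2⟩ }
  -- the data modulo nilpotents
  letI : Algebra Γ(T₀.left, ⊤) Γ(W.left, ⊤) := wT.left.appTop.hom.toAlgebra
  haveI : Algebra.Etale Γ(T₀.left, ⊤) Γ(W.left, ⊤) :=
    (HasRingHomProperty.iff_of_isAffine (P := @Etale) (f := wT.left)).1 inferInstance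
  haveI : Module.FaithfullyFlat Γ(T₀.left, ⊤) Γ(W.left, ⊤) := by
    refine Module.FaithfullyFlat.of_comap_surjective fun P => ?_
    obtain ⟨w, hw⟩ := (inferInstance : Surjective wT.left).surj (T₀.left.isoSpec.inv P)
    refine ⟨W.left.isoSpec.hom w, ?_⟩
    show Spec.map wT.left.appTop (W.left.isoSpec.hom w) = P
    rw [← Scheme.Hom.comp_apply, Scheme.isoSpec_hom_naturality, Scheme.Hom.comp_apply, hw, ← Scheme.Hom.comp_apply,
      Iso.inv_hom_id]
    rfl
  obtain ⟨e, he1, he2⟩ := exists_tensor_equiv (show IsPullback v.left p₂.left wT.left wT.left from sqWWl)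
  let qC : Γ(R.left, ⊤) →+* Γ(W.left, ⊤) ⊗[Γ(T₀.left, ⊤)] Γ(W.left, ⊤) :=
    ((Algebra.TensorProduct.comm Γ(T₀.left, ⊤) Γ(W.left, ⊤) Γ(W.left, ⊤)).toAlgHom.toRingHom.comp e.toRingHom).comp
      p₁.left.appTop.hom
  obtain ⟨hp₁surj, hp₁ker⟩ := surjective_and_ker_of_isPushout
    (isPushout_appTop_of_isPullback (show IsPullback p₁.left p₂.left r₁.left wU.left from sqWRl))
    (appTop_surjective_of_closedImmersion wU.left)
  have d : NilData r wU.left.appTop.hom qC :=
    { q_surj := appTop_surjective_of_closedImmersion wU.left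
      q_nil := fun x hx => nil_ker_appTop wU.left x hx
      qC_surj := fun y => by
        obtain ⟨z, rfl⟩ := (Algebra.TensorProduct.comm Γ(T₀.left, ⊤) Γ(W.left, ⊤) Γ(W.left, ⊤)).surjective y
        obtain ⟨w, rfl⟩ := e.surjective z
        obtain ⟨x, rfl⟩ := hp₁surj w
        exact ⟨x, rfl⟩
      qC_s := RingHom.ext fun x => by
        show Algebra.TensorProduct.comm Γ(T₀.left, ⊤) _ _ (e (p₁.left.appTop.hom (r₁.left.appTop.hom x))) = _
        rw [show p₁.left.appTop.hom (r₁.left.appTop.hom x) = p₂.left.appTop.hom (wU.left.appTop.hom x) by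
          rw [← CommRingCat.comp_apply, ← CommRingCat.comp_apply, ← Scheme.Hom.comp_appTop, ← Scheme.Hom.comp_appTop,
            ← Over.comp_left, ← Over.comp_left, sqWR.w], he2, Algebra.TensorProduct.comm_tmul]
        rfl
      qC_t := RingHom.ext fun x => by
        show Algebra.TensorProduct.comm Γ(T₀.left, ⊤) _ _ (e (p₁.left.appTop.hom (r₂.left.appTop.hom x))) = _
        rw [show p₁.left.appTop.hom (r₂.left.appTop.hom x) = v.left.appTop.hom (wU.left.appTop.hom x) by
          rw [← CommRingCat.comp_apply, ← CommRingCat.comp_apply, ← Scheme.Hom.comp_appTop, ← Scheme.Hom.comp_appTop,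
            ← Over.comp_left, ← Over.comp_left, hv2], he1, Algebra.TensorProduct.comm_tmul]
        rfl
      qC_ker := by
        refine Eq.trans ?_ hp₁ker
        ext x
        rw [RingHom.mem_ker, RingHom.mem_ker]
        show Algebra.TensorProduct.comm Γ(T₀.left, ⊤) Γ(W.left, ⊤) Γ(W.left, ⊤) (e (p₁.left.appTop.hom x)) = 0 ↔ _
        rw [EmbeddingLike.map_eq_zero_iff, EmbeddingLike.map_eq_zero_iff] }
  obtain ⟨A', _, _, hA'et, hA'ff, hA'st, eT, heT, heTmul⟩ := d.exists_effective
  -- the quotient scheme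
  let A := CommRingCat.of A'
  let φ : A ⟶ Γ(U.left, ⊤) := CommRingCat.ofHom (algebraMap A' Γ(U.left, ⊤))
  let mS : U.left ⟶ Spec A := U.left.isoSpec.hom ≫ Spec.map φ
  haveI : Etale (Spec.map φ) :=
    (HasRingHomProperty.Spec_iff (P := @Etale)).2 (RingHom.etale_algebraMap.2 hA'et)
  haveI : Surjective (Spec.map φ) := ⟨PrimeSpectrum.comap_surjective_of_faithfullyFlat⟩
  have hsq : IsPullback r₁.left r₂.left mS mS := isPullback_affine (isPullback_of_tensor (A := A) (B := Γ(U.left, ⊤))
    r₁.left.appTop r₂.left.appTop eT heT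
    (fun x => by rw [heTmul, map_one, mul_one]) (fun x => by rw [heTmul, map_one, one_mul]))
  haveI : EffectiveEpi mS := inferInstance
  have hcoh : ∀ {Z : Scheme.{u}} (g₁ g₂ : Z ⟶ U.left), g₁ ≫ mS = g₂ ≫ mS → g₁ ≫ U.hom = g₂ ≫ U.hom := by
    intro Z g₁ g₂ h
    rw [← hsq.lift_fst g₁ g₂ h]
    conv_rhs => rw [← hsq.lift_snd g₁ g₂ h]
    rw [Category.assoc, Category.assoc, Over.w r₁, Over.w r₂]
  let str : Spec A ⟶ S := EffectiveEpi.desc mS U.hom hcoh
  let M : Over S := Over.mk str
  let m : U ⟶ M := Over.homMk mS (EffectiveEpi.fac mS U.hom hcoh)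
  haveI : Flat m.left := inferInstanceAs (Flat mS)
  haveI : LocallyOfFinitePresentation m.left := inferInstanceAs (LocallyOfFinitePresentation mS)
  haveI : Surjective m.left := inferInstanceAs (Surjective mS)
  haveI := isLocallySurjective_yon_map m
  have sqY : IsPullback ((yon S).map r₁) ((yon S).map r₂) ((yon S).map m) ((yon S).map m) :=
    (IsPullback.of_map (Over.forget S) (show r₁ ≫ m = r₂ ≫ m from Over.OverMorphism.ext hsq.w) hsq).map (yon S)
  obtain ⟨c, hc⟩ := exists_desc ((yon S).map m) b fun Z g g' eg => by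
    rw [← sqY.lift_fst _ _ eg]
    conv_rhs => rw [← sqY.lift_snd _ _ eg]
    rw [Category.assoc, Category.assoc, sqR.w]
  obtain ⟨c', hc'⟩ := exists_desc_of_atlas hb hbs ((yon S).map m) fun Z g g' eg => by
    rw [← sqR.lift_fst _ _ eg]
    conv_rhs => rw [← sqR.lift_snd _ _ eg]
    rw [Category.assoc, Category.assoc, sqY.w]
  refine ⟨M, inferInstanceAs (IsAffine (Spec A)), ⟨⟨c, c', (cancel_epi ((yon S).map m)).1 ?_, ?_⟩⟩⟩
  · rw [← Category.assoc, hc, hc', Category.comp_id]
  · refine hom_ext_of_atlas hb hbs ?_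
    rw [← Category.assoc, hc', hc, Category.comp_id]

end ThickQuotLib
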